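import Cfsg.Agent.Lib.SpPresent.Sp4

/-!
Groups with compatible copies of `Sp_4` on all pairs of `n` indices: root relations.
-/

set_option autoImplicit false
set_option linter.unusedSectionVars false

namespace CfsgLib.SpPresent

open Matrix Cfsg CfsgLib.Sp SLTwoPresent CfsgLib.SpFourPresent

variable {F : Type*} [Field F] {n : ℕ}

local notation "Sp4" => Matrix.symplecticGroup (Fin 2) F
local notation "SL2" => Matrix.SpecialLinearGroup (Fin 2) F

/-- Compatible copies of `Sp_4`, with the two relations between copies meeting in one index. -/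
structure CData (n : ℕ) (F : Type*) [Field F] (G : Type*) [Group G] where
  two : 2 ≤ n
  π : G →* Matrix.symplecticGroup (Fin n) F
  φ : Fin n → Fin n → (Matrix.symplecticGroup (Fin 2) F →* G)
  L : Fin n → (Matrix.SpecialLinearGroup (Fin 2) F →* G)
  π_φ : ∀ i j (h : i ≠ j) m, π (φ i j m) = emb (pr i j h) m
  φ_swap : ∀ i j, i ≠ j → ∀ m, φ j i m = φ i j (τ m)
  φ_eA : ∀ i j, i ≠ j → ∀ M, φ i j (eA M) = L i M
  disj : ∀ i j a b, i ≠ j → a ≠ b → i ≠ a → i ≠ b → j ≠ a → j ≠ b →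
    ∀ m m', Commute (φ i j m) (φ a b m')
  disjL : ∀ i a b, a ≠ b → i ≠ a → i ≠ b → ∀ M m, Commute (L i M) (φ a b m)
  swap_conj : ∀ i j a b, i ≠ j → a ≠ b → ∀ m,
    φ i j sw * φ a b m * (φ i j sw)⁻¹ = φ (Equiv.swap i j a) (Equiv.swap i j b) m
  comm0 : ∀ i j l, i ≠ j → i ≠ l → j ≠ l → Commute (φ i j (rm 1)) (φ i l (rm 1))
  a20 : ∀ a b c, a ≠ b → a ≠ c → b ≠ c →
    φ a b (rm 1) * φ b c (rm 1) * (φ a b (rm 1))⁻¹ * (φ b c (rm 1))⁻¹ = φ a c (rm 1)

namespace CData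

variable {G : Type*} [Group G] (D : CData n F G)

theorem φ_embB {i j : Fin n} (h : i ≠ j) (M : SL2) : D.φ i j (embB M) = D.L j M := by
  rw [← τ_eA, ← D.φ_swap i j h, D.φ_eA j i h.symm]

theorem conj_φ {i j : Fin n} (g m : Sp4) :
    D.φ i j g * D.φ i j m * (D.φ i j g)⁻¹ = D.φ i j (g * m * g⁻¹) := by
  simp only [map_mul, map_inv]

theorem conj_of_eq {i j : Fin n} {g m m' : Sp4} (h : g * m = m' * g) :
    D.φ i j g * D.φ i j m * (D.φ i j g)⁻¹ = D.φ i j m' := by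
  rw [D.conj_φ, h, mul_inv_cancel_right]

theorem fix_disjL {i a b : Fin n} (h : a ≠ b) (ha : i ≠ a) (hb : i ≠ b) (M : SL2) (m : Sp4) :
    D.L i M * D.φ a b m * (D.L i M)⁻¹ = D.φ a b m := by
  rw [(D.disjL i a b h ha hb M m).eq, mul_inv_cancel_right]

theorem commute_conj {g x y x' y' : G} (h : Commute x y) (hx : g * x * g⁻¹ = x')
    (hy : g * y * g⁻¹ = y') : Commute x' y' := by
  subst hx hy
  exact h.map (MulAut.conj g).toMonoidHom

theorem comm_rm {i j l : Fin n} (hij : i ≠ j) (hil : i ≠ l) (hjl : j ≠ l) (s t : F) :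
    Commute (D.φ i j (rm s)) (D.φ i l (rm t)) := by
  rcases eq_or_ne s 0 with rfl | hs
  · rw [rm_zero, map_one]; exact Commute.one_left _
  rcases eq_or_ne t 0 with rfl | ht
  · rw [rm_zero, map_one]; exact Commute.one_right _
  have step : ∀ (j l : Fin n), i ≠ j → i ≠ l → j ≠ l → ∀ (u : F), u ≠ 0 → ∀ (y : F),
      Commute (D.φ i j (rm 1)) (D.φ i l (rm y)) → Commute (D.φ i j (rm u)) (D.φ i l (rm y)) := by
    intro j l hij hil hjl u hu y h
    refine commute_conj (g := D.L j (dd (Units.mk0 u⁻¹ (inv_ne_zero hu)))) h ?_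
      (D.fix_disjL hil hij.symm hjl _ _)
    rw [← D.φ_embB hij]
    refine D.conj_of_eq ?_
    rw [embB_dd_rm, Units.val_mk0, inv_inv, mul_one]
  exact step j l hij hil hjl s hs t
    ((step l j hil hij hjl.symm t ht 1 (D.comm0 i l j hil hij hjl.symm)).symm)

/-- The two kinds of short root elements with positive coefficient of `eᵢ`. -/
def IsR (i j : Fin n) (x : G) : Prop := ∃ t, x = D.φ i j (rm t) ∨ x = D.φ i j (rp t)

theorem flip_rm {i j : Fin n} (hij : i ≠ j) (t : F) :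
    D.L j ww * D.φ i j (rm t) * (D.L j ww)⁻¹ = D.φ i j (rp (-t)) := by
  rw [← D.φ_embB hij]
  exact D.conj_of_eq (embB_ww_rm t)

theorem flip_rp {i j : Fin n} (hij : i ≠ j) (t : F) :
    D.L j ww * D.φ i j (rp t) * (D.L j ww)⁻¹ = D.φ i j (rm t) := by
  rw [← D.φ_embB hij]
  exact D.conj_of_eq (embB_ww_rp t)

theorem comm_R {i j l : Fin n} (hij : i ≠ j) (hil : i ≠ l) (hjl : j ≠ l) {x y : G}
    (hx : D.IsR i j x) (hy : D.IsR i l y) : Commute x y := by
  have h1 : ∀ s t, Commute (D.φ i j (rp s)) (D.φ i l (rm t)) := fun s t =>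
    commute_conj (g := D.L j ww) (D.comm_rm hij hil hjl (-s) t) (by rw [D.flip_rm hij, neg_neg])
      (D.fix_disjL hil hij.symm hjl _ _)
  have h2 : ∀ s t, Commute (D.φ i j (rm s)) (D.φ i l (rp t)) := fun s t =>
    commute_conj (g := D.L l ww) (D.comm_rm hij hil hjl s (-t))
      (D.fix_disjL hij hil.symm hjl.symm _ _) (by rw [D.flip_rm hil, neg_neg])
  have h3 : ∀ s t, Commute (D.φ i j (rp s)) (D.φ i l (rp t)) := fun s t =>
    commute_conj (g := D.L l ww) (h1 s (-t)) (D.fix_disjL hij hil.symm hjl.symm _ _)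
      (by rw [D.flip_rm hil, neg_neg])
  obtain ⟨s, rfl | rfl⟩ := hx <;> obtain ⟨t, rfl | rfl⟩ := hy
  exacts [D.comm_rm hij hil hjl s t, h2 s t, h1 s t, h3 s t]

theorem conj_comm_eq {g x y r x' y' r' : G} (h : x * y * x⁻¹ * y⁻¹ = r) (hx : g * x * g⁻¹ = x')
    (hy : g * y * g⁻¹ = y') (hr : g * r * g⁻¹ = r') : x' * y' * x'⁻¹ * y'⁻¹ = r' := by
  subst hx hy hr h
  group

theorem a2 {a b c : Fin n} (hab : a ≠ b) (hac : a ≠ c) (hbc : b ≠ c) (s t : F) :
    D.φ a b (rm s) * D.φ b c (rm t) * (D.φ a b (rm s))⁻¹ * (D.φ b c (rm t))⁻¹ =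
      D.φ a c (rm (s * t)) := by
  rcases eq_or_ne s 0 with rfl | hs
  · simp [rm_zero]
  rcases eq_or_ne t 0 with rfl | ht
  · simp [rm_zero]
  have h1 : D.φ a b (rm s) * D.φ b c (rm 1) * (D.φ a b (rm s))⁻¹ * (D.φ b c (rm 1))⁻¹ =
      D.φ a c (rm s) := by
    refine conj_comm_eq (g := D.L a (dd (Units.mk0 s hs))) (D.a20 a b c hab hac hbc) ?_
      (D.fix_disjL hbc hab hac _ _) ?_
    · rw [← D.φ_eA a b hab]
      exact D.conj_of_eq (by rw [eA_dd_rm, Units.val_mk0, mul_one])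
    · rw [← D.φ_eA a c hac]
      exact D.conj_of_eq (by rw [eA_dd_rm, Units.val_mk0, mul_one])
  refine conj_comm_eq (g := D.L c (dd (Units.mk0 t⁻¹ (inv_ne_zero ht)))) h1
    (D.fix_disjL hab hac.symm hbc.symm _ _) ?_ ?_
  · rw [← D.φ_embB hbc]
    exact D.conj_of_eq (by rw [embB_dd_rm, Units.val_mk0, inv_inv, mul_one])
  · rw [← D.φ_embB hac]
    exact D.conj_of_eq (by rw [embB_dd_rm, Units.val_mk0, inv_inv, mul_comm])

theorem a2_plus {a b c : Fin n} (hab : a ≠ b) (hac : a ≠ c) (hbc : b ≠ c) (s t : F) :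
    D.φ a b (rp s) * D.φ c b (rm t) * (D.φ a b (rp s))⁻¹ * (D.φ c b (rm t))⁻¹ =
      D.φ a c (rp (-(s * t))) ∨
    D.φ a b (rp s) * D.φ c b (rm t) * (D.φ a b (rp s))⁻¹ * (D.φ c b (rm t))⁻¹ =
      D.φ a c (rp (s * t)) := by
  -- flip `c`, then `b`
  have h1 : D.φ a b (rm (-s)) * D.φ b c (rp t) * (D.φ a b (rm (-s)))⁻¹ * (D.φ b c (rp t))⁻¹ =
      D.φ a c (rp (-(s * t))) := by
    refine conj_comm_eq (g := D.L c ww) (D.a2 hab hac hbc (-s) (-t))
      (D.fix_disjL hab hac.symm hbc.symm _ _) (by rw [D.flip_rm hbc, neg_neg]) ?_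
    rw [D.flip_rm hac, neg_mul_neg]
  left
  refine conj_comm_eq (g := D.L b ww) h1 (by rw [D.flip_rm hab, neg_neg]) ?_
    (D.fix_disjL hac hab.symm hbc _ _)
  rw [D.φ_swap b c hbc, show D.φ b c (rp t) = D.φ c b (rp t) by rw [D.φ_swap b c hbc, τ_rp],
    D.flip_rp hbc.symm, D.φ_swap b c hbc]

/-- The group on a set of indices. -/
def GS (S : Finset (Fin n)) : Subgroup G :=
  Subgroup.closure {x | (∃ i ∈ S, ∃ M, D.L i M = x) ∨
    ∃ i ∈ S, ∃ j ∈ S, i ≠ j ∧ ∃ m, D.φ i j m = x}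

/-- The unipotent radical of the stabiliser of `e_β`. -/
def QS (T : Finset (Fin n)) (β : Fin n) : Subgroup G :=
  Subgroup.closure {x | (∃ z, D.L β (uu z) = x) ∨ ∃ j ∈ T, D.IsR β j x}

theorem L_mem {S : Finset (Fin n)} {i : Fin n} (hi : i ∈ S) (M : SL2) : D.L i M ∈ D.GS S :=
  Subgroup.subset_closure (Or.inl ⟨i, hi, M, rfl⟩)

theorem φ_mem {S : Finset (Fin n)} {i j : Fin n} (hi : i ∈ S) (hj : j ∈ S) (h : i ≠ j) (m : Sp4) :
    D.φ i j m ∈ D.GS S :=
  Subgroup.subset_closure (Or.inr ⟨i, hi, j, hj, h, m, rfl⟩)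

theorem GS_le {S : Finset (Fin n)} {K : Subgroup G} (hL : ∀ i ∈ S, ∀ M, D.L i M ∈ K)
    (hφ : ∀ i ∈ S, ∀ j ∈ S, i ≠ j → ∀ m, D.φ i j m ∈ K) : D.GS S ≤ K := by
  refine (Subgroup.closure_le _).2 ?_
  rintro x (⟨i, hi, M, rfl⟩ | ⟨i, hi, j, hj, h, m, rfl⟩)
  exacts [hL i hi M, hφ i hi j hj h m]

theorem GS_le_four {S : Finset (Fin n)} {K : Subgroup G} (hL : ∀ i ∈ S, ∀ M, D.L i M ∈ K)
    (hr : ∀ i ∈ S, ∀ j ∈ S, i ≠ j → D.φ i j (rm 1) ∈ K ∧ D.φ i j sw ∈ K) : D.GS S ≤ K := by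
  refine D.GS_le hL fun i hi j hj hij m => ?_
  have htop : K.comap (D.φ i j) = ⊤ := by
    refine sp_four_top (fun M => ?_) (fun M => ?_) (hr i hi j hj hij).1 (hr i hi j hj hij).2
    · show D.φ i j (eA M) ∈ K
      rw [D.φ_eA i j hij]; exact hL i hi M
    · show D.φ i j (embB M) ∈ K
      rw [D.φ_embB hij]; exact hL j hj M
  have h : m ∈ K.comap (D.φ i j) := htop ▸ Subgroup.mem_top m
  exact h

theorem GS_mono {S S' : Finset (Fin n)} (h : S ⊆ S') : D.GS S ≤ D.GS S' :=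
  D.GS_le (fun _ hi _ => D.L_mem (h hi) _) fun _ hi _ hj hij _ => D.φ_mem (h hi) (h hj) hij _

theorem uu_mem {T : Finset (Fin n)} {β : Fin n} (z : F) : D.L β (uu z) ∈ D.QS T β :=
  Subgroup.subset_closure (Or.inl ⟨z, rfl⟩)

theorem R_mem {T : Finset (Fin n)} {β j : Fin n} (hj : j ∈ T) {x : G} (hx : D.IsR β j x) :
    x ∈ D.QS T β :=
  Subgroup.subset_closure (Or.inr ⟨j, hj, hx⟩)

theorem rad_mem {T : Finset (Fin n)} {β j : Fin n} (hj : j ∈ T) (h : β ≠ j) (z a y : F) :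
    D.φ β j (eA (uu z) * rm a * rp y) ∈ D.QS T β := by
  rw [map_mul, map_mul, D.φ_eA β j h]
  exact mul_mem (mul_mem (D.uu_mem z) (D.R_mem hj ⟨a, Or.inl rfl⟩)) (D.R_mem hj ⟨y, Or.inr rfl⟩)

theorem QS_le_GS {T : Finset (Fin n)} {β : Fin n} (hβ : β ∉ T) :
    D.QS T β ≤ D.GS (insert β T) := by
  refine (Subgroup.closure_le _).2 ?_
  rintro x (⟨z, rfl⟩ | ⟨j, hj, t, hx⟩)
  · exact D.L_mem (Finset.mem_insert_self _ _) _
  · have h : β ≠ j := fun e => hβ (e ▸ hj)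
    rcases hx with rfl | rfl <;>
      exact D.φ_mem (Finset.mem_insert_self _ _) (Finset.mem_insert_of_mem hj) h _

/-- The radical is normalised by the group on the other indices. -/
theorem QS_norm {T : Finset (Fin n)} {β : Fin n} (hβ : β ∉ T) {g : G} (hg : g ∈ D.GS T) {x : G}
    (hx : x ∈ D.QS T β) : g * x * g⁻¹ ∈ D.QS T β := by
  have hne : ∀ {j}, j ∈ T → β ≠ j := fun hj e => hβ (e ▸ hj)
  -- elements conjugating generators into the radical
  let Good : G → Prop := fun g => ∀ x ∈ D.QS T β, g * x * g⁻¹ ∈ D.QS T β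
  have of_gen : ∀ g : G, (∀ z, g * D.L β (uu z) * g⁻¹ ∈ D.QS T β) →
      (∀ j ∈ T, ∀ x, D.IsR β j x → g * x * g⁻¹ ∈ D.QS T β) → Good g := by
    intro g h1 h2 x hx
    have hle : D.QS T β ≤ (D.QS T β).comap (MulAut.conj g).toMonoidHom := by
      refine (Subgroup.closure_le _).2 ?_
      rintro x (⟨z, rfl⟩ | ⟨j, hj, hx⟩)
      exacts [h1 z, h2 j hj x hx]
    exact hle hx
  let K : Subgroup G :=
    { carrier := {g | Good g ∧ Good g⁻¹}
      one_mem' := by constructor <;> intro x hx <;> simpa using hx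
      mul_mem' := fun {u v} hu hv => by
        refine ⟨fun x hx => ?_, fun x hx => ?_⟩
        · rw [show u * v * x * (u * v)⁻¹ = u * (v * x * v⁻¹) * u⁻¹ by group]
          exact hu.1 _ (hv.1 x hx)
        · rw [show (u * v)⁻¹ * x * (u * v)⁻¹⁻¹ = v⁻¹ * (u⁻¹ * x * u⁻¹⁻¹) * v⁻¹⁻¹ by group]
          exact hv.2 _ (hu.2 x hx)
      inv_mem' := fun {u} hu => ⟨hu.2, by rw [inv_inv]; exact hu.1⟩ }
  suffices D.GS T ≤ K from (this hg).1 x hx
  have hLgood : ∀ j ∈ T, ∀ M, Good (D.L j M) := by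
    intro j hj M
    refine of_gen _ (fun z => ?_) fun l hl x hx => ?_
    · rw [← D.φ_eA β j (hne hj), ← D.φ_embB (hne hj), D.conj_φ,
        show embB M * eA (uu z) * (embB M)⁻¹ = eA (uu z) by
          rw [← (eA_embB (uu z) M).eq, mul_inv_cancel_right], D.φ_eA β j (hne hj)]
      exact D.uu_mem z
    · rcases eq_or_ne l j with rfl | hlj
      · obtain ⟨t, rfl | rfl⟩ := hx
        · rw [← D.φ_embB (hne hj), D.conj_of_eq (embB_rm M t)]
          exact D.rad_mem hj (hne hj) _ _ _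
        · rw [← D.φ_embB (hne hj), D.conj_of_eq (embB_rp M t)]
          exact D.rad_mem hj (hne hj) _ _ _
      · obtain ⟨t, rfl | rfl⟩ := hx <;>
          rw [D.fix_disjL (hne hl) (hne hj).symm hlj.symm]
        exacts [D.R_mem hl ⟨t, Or.inl rfl⟩, D.R_mem hl ⟨t, Or.inr rfl⟩]
  refine D.GS_le_four (fun j hj M => ⟨hLgood j hj M, by rw [← map_inv]; exact hLgood j hj _⟩)
    fun a ha b hb hab => ?_
  have hrm : ∀ t, Good (D.φ a b (rm t)) := by
    intro t
    refine of_gen _ (fun z => ?_) fun l hl x hx => ?_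
    · rw [← (D.disjL β a b hab (hne ha) (hne hb) _ _).eq, mul_inv_cancel_right]
      exact D.uu_mem z
    · rcases eq_or_ne l a with rfl | hla
      · obtain ⟨s, rfl | rfl⟩ := hx
        · have h := D.a2 (hne ha) (hne hb) hab s t
          rw [show D.φ l b (rm t) * D.φ β l (rm s) * (D.φ l b (rm t))⁻¹ =
            (D.φ β l (rm s) * D.φ l b (rm t) * (D.φ β l (rm s))⁻¹ * (D.φ l b (rm t))⁻¹)⁻¹ *
              D.φ β l (rm s) by group, h]
          exact mul_mem (inv_mem (D.R_mem hb ⟨_, Or.inl rfl⟩)) (D.R_mem ha ⟨_, Or.inl rfl⟩)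
        · have hc : Commute (D.φ β l (rp s)) (D.φ l b (rm t)) := by
            rw [show D.φ β l (rp s) = D.φ l β (rp s) by rw [D.φ_swap β l (hne ha), τ_rp]]
            exact D.comm_R (hne ha).symm hab (hne hb) ⟨s, Or.inr rfl⟩ ⟨t, Or.inl rfl⟩
          rw [← hc.eq, mul_inv_cancel_right]
          exact D.R_mem ha ⟨s, Or.inr rfl⟩
      rcases eq_or_ne l b with rfl | hlb
      · obtain ⟨s, rfl | rfl⟩ := hx
        · have hc : Commute (D.φ β l (rp (-s))) (D.φ a l (rp (-t))) := by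
            rw [show D.φ β l (rp (-s)) = D.φ l β (rp (-s)) by rw [D.φ_swap β l (hne hb), τ_rp],
              show D.φ a l (rp (-t)) = D.φ l a (rp (-t)) by rw [D.φ_swap a l hab, τ_rp]]
            exact D.comm_R (hne hb).symm hab.symm (hne ha) ⟨_, Or.inr rfl⟩ ⟨_, Or.inr rfl⟩
          have hc' : Commute (D.φ β l (rm (-s))) (D.φ a l (rm (-t))) :=
            commute_conj (g := D.L l ww) hc (D.flip_rp (hne hb) _) (D.flip_rp hab _)
          have hc'' : Commute (D.φ β l (rm s)) (D.φ a l (rm t)) := by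
            have e : ∀ (i j : Fin n) (u : F), D.φ i j (rm (-u)) = (D.φ i j (rm u))⁻¹ := fun i j u => by
              rw [← map_inv]
              congr 1
              exact (inv_eq_of_mul_eq_one_right (by rw [← rm_add, add_neg_cancel, rm_zero])).symm
            rw [e, e] at hc'
            simpa using hc'.inv_inv
          rw [← hc''.eq, mul_inv_cancel_right]
          exact D.R_mem hb ⟨s, Or.inl rfl⟩
        · rcases D.a2_plus (hne hb) (hne ha) hab.symm s t with h | h <;>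
          · rw [show D.φ a l (rm t) * D.φ β l (rp s) * (D.φ a l (rm t))⁻¹ =
              (D.φ β l (rp s) * D.φ a l (rm t) * (D.φ β l (rp s))⁻¹ * (D.φ a l (rm t))⁻¹)⁻¹ *
                D.φ β l (rp s) by group, h]
            exact mul_mem (inv_mem (D.R_mem ha ⟨_, Or.inr rfl⟩)) (D.R_mem hb ⟨_, Or.inr rfl⟩)
      · obtain ⟨s, rfl | rfl⟩ := hx <;>
          rw [← (D.disj β l a b (hne hl) hab (hne ha) (hne hb) hla hlb _ _).eq, mul_inv_cancel_right]
        exacts [D.R_mem hl ⟨s, Or.inl rfl⟩, D.R_mem hl ⟨s, Or.inr rfl⟩]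
  have hsw : Good (D.φ a b sw) := by
    refine of_gen _ (fun z => ?_) fun l hl x hx => ?_
    · rw [← (D.disjL β a b hab (hne ha) (hne hb) _ _).eq, mul_inv_cancel_right]
      exact D.uu_mem z
    · obtain ⟨s, rfl | rfl⟩ := hx <;>
        rw [D.swap_conj a b β l hab (hne hl), Equiv.swap_apply_of_ne_of_ne (hne ha) (hne hb)]
      all_goals
        refine D.R_mem (j := Equiv.swap a b l) ?_ ⟨s, by first | exact Or.inl rfl | exact Or.inr rfl⟩
        rw [Equiv.swap_apply_def]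
        split_ifs <;> assumption
  refine ⟨⟨hrm 1, ?_⟩, ⟨hsw, ?_⟩⟩
  · rw [← map_inv, show (rm (1 : F))⁻¹ = rm (-1) from
      inv_eq_of_mul_eq_one_right (by rw [← rm_add, add_neg_cancel, rm_zero])]
    exact hrm (-1)
  · rw [← map_inv, sw_inv]
    exact hsw

end CData

end CfsgLib.SpPresent
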