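import Cfsg.Agent.Lib.SpPresent.Build

/-!
The presentations of `Sp_{2n}(q)` and `PSp_{2n}(q)` with few generators and relations.
-/

set_option autoImplicit false

namespace CfsgLib.SpPresent

open Matrix Cfsg CfsgLib.Sp CfsgLib.SymPresent

variable {F : Type*} [Field F] [Fintype F]

/-- A further generator, trivial in the group. -/
theorem hasPres_pad {G : Type*} [Group G] {k r : ℕ} {v : Fin k → G} (h : HasPres v r) :
    ∃ w : Fin (k + 1) → G, HasPres w (r + 1) := by
  refine ⟨Fin.snoc v 1, ?_⟩
  have h' := h.change (Fin.snoc v 1) {Fin.last k} (fun i => FreeGroup.of i.castSucc)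
    (fun i => by simp) (Fin.snoc (fun i => FreeGroup.of i) 1) (fun j => ?_) (fun j hj => ?_)
  · simpa using h'
  · cases j using Fin.lastCases <;> simp
  · cases j using Fin.lastCases with
    | last => simp at hj
    | cast i => simp

/-- Killing a cyclic normal subgroup costs one relation. -/
theorem hasPres_quotient {ι : Type} {G : Type*} [Group G] {v : ι → G} {r : ℕ} (h : HasPres v r)
    (N : Subgroup G) [N.Normal] {z : G} (hz : z ∈ N) (hN : N ≤ Subgroup.zpowers z) :
    HasPres (fun i => (QuotientGroup.mk' N) (v i)) (r + 1) := by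
  classical
  obtain ⟨w, hw⟩ := exists_word h z
  obtain ⟨rels, hc, e, he⟩ := h
  set R : Finset (FreeGroup ι) := insert w rels with hR
  set q := QuotientGroup.mk' N
  have hrel : ∀ x ∈ (↑R : Set (FreeGroup ι)), FreeGroup.lift (fun i => q (v i)) x = 1 := by
    intro x hx
    rw [show FreeGroup.lift (fun i => q (v i)) = q.comp (FreeGroup.lift v) from
      FreeGroup.ext_hom _ _ fun i => by simp, MonoidHom.comp_apply]
    rw [hR, Finset.coe_insert] at hx
    rcases hx with rfl | hx
    · rw [hw]; exact (QuotientGroup.eq_one_iff _).2 hz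
    · rw [HasPres.lift_eq e he, PresentedGroup.one_of_mem hx, map_one, map_one]
  set φ := PresentedGroup.toGroup hrel
  have hsub : ∀ x ∈ (↑rels : Set (FreeGroup ι)),
      FreeGroup.lift (fun i => PresentedGroup.mk (↑R : Set (FreeGroup ι)) (FreeGroup.of i)) x = 1 := by
    intro x hx
    rw [show FreeGroup.lift (fun i => PresentedGroup.mk (↑R : Set (FreeGroup ι)) (FreeGroup.of i)) =
      PresentedGroup.mk (↑R : Set (FreeGroup ι)) from FreeGroup.ext_hom _ _ fun i => by simp]
    exact PresentedGroup.one_of_mem (by rw [hR, Finset.coe_insert]; exact Or.inr hx)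
  set σ := (PresentedGroup.toGroup hsub).comp e.symm.toMonoidHom with hσ
  have hσv : ∀ x, σ (FreeGroup.lift v x) = PresentedGroup.mk (↑R : Set (FreeGroup ι)) x := fun x => by
    have : σ.comp (FreeGroup.lift v) = PresentedGroup.mk (↑R : Set (FreeGroup ι)) :=
      FreeGroup.ext_hom _ _ fun i => by
        simp only [MonoidHom.comp_apply, FreeGroup.lift_apply_of, hσ, ← he i,
          MulEquiv.coe_toMonoidHom, MulEquiv.symm_apply_apply]
        exact PresentedGroup.toGroup.of hsub
    exact DFunLike.congr_fun this x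
  have hker : N ≤ σ.ker := by
    refine hN.trans ((Subgroup.zpowers_le).2 ?_)
    rw [MonoidHom.mem_ker, ← hw, hσv]
    exact PresentedGroup.one_of_mem (by rw [hR, Finset.coe_insert]; exact Or.inl rfl)
  have hleft : (QuotientGroup.lift N σ hker).comp φ = MonoidHom.id _ := by
    refine PresentedGroup.ext fun i => ?_
    rw [MonoidHom.comp_apply, show φ (PresentedGroup.of i) = q (v i) from PresentedGroup.toGroup.of hrel]
    show σ (v i) = _
    rw [← FreeGroup.lift_apply_of (f := v) (x := i), hσv]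
    rfl
  have hright : φ.comp (QuotientGroup.lift N σ hker) = MonoidHom.id _ := by
    refine QuotientGroup.monoidHom_ext N (MonoidHom.ext fun g => ?_)
    obtain ⟨x, rfl⟩ : ∃ x, FreeGroup.lift v x = g := exists_word ⟨rels, hc, e, he⟩ g
    show φ (σ (FreeGroup.lift v x)) = q (FreeGroup.lift v x)
    rw [hσv]
    have : φ.comp (PresentedGroup.mk (↑R : Set (FreeGroup ι))) = q.comp (FreeGroup.lift v) :=
      FreeGroup.ext_hom _ _ fun i => by
        simp only [MonoidHom.comp_apply, FreeGroup.lift_apply_of]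
        exact PresentedGroup.toGroup.of hrel
    exact DFunLike.congr_fun this x
  refine ⟨R, (Finset.card_insert_le _ _).trans (by omega), MonoidHom.toMulEquiv φ _ hleft hright,
    fun i => ?_⟩
  exact PresentedGroup.toGroup.of hrel

/-- The centre of `Sp` is cyclic. -/
theorem center_le_zpowers (n : ℕ) : ∃ z ∈ Subgroup.center (Matrix.symplecticGroup (Fin n) F),
    Subgroup.center (Matrix.symplecticGroup (Fin n) F) ≤ Subgroup.zpowers z := by
  by_cases h : ∃ a ∈ Subgroup.center (Matrix.symplecticGroup (Fin n) F), a ≠ 1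
  · obtain ⟨a, ha, ha1⟩ := h
    refine ⟨a, ha, fun b hb => ?_⟩
    rcases mem_center_iff.1 hb with e | e
    · rw [show b = 1 from Subtype.ext e]; exact one_mem _
    · rcases mem_center_iff.1 ha with e' | e'
      · exact absurd (Subtype.ext e') ha1
      · rw [show b = a from Subtype.ext (e.trans e'.symm)]; exact Subgroup.mem_zpowers a
  · push Not at h
    exact ⟨1, one_mem _, fun b hb => by rw [h b hb]; exact one_mem _⟩

theorem psp_of_sp {n k r : ℕ} {v : Fin k → Matrix.symplecticGroup (Fin n) F} (h : HasPres v r) :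
    ∃ w : Fin k → Cfsg.PSp n F, HasPres w (r + 1) := by
  obtain ⟨z, hz, hle⟩ := center_le_zpowers (F := F) n
  exact ⟨_, hasPres_quotient h _ hz hle⟩

theorem sp_large (n : ℕ) (hn : 4 ≤ n) :
    ∃ v : Fin 9 → Matrix.symplecticGroup (Fin n) F, HasPres v 57 := by
  rcases hn.eq_or_lt with h | h
  · obtain ⟨u, hu⟩ := small_even n 1 one_pos (by omega) false
    obtain ⟨v, hv⟩ := core (F := F) (n := n) (by omega) (hu.map (symEquiv n))
    obtain ⟨w, hw⟩ := hasPres_pad hv
    exact ⟨w, hw.mono (by rw [if_pos hn]; norm_num)⟩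
  · obtain ⟨u, hu⟩ := three_gen n h false
    obtain ⟨v, hv⟩ := core (F := F) (n := n) (by omega) (hu.map (symEquiv n))
    exact ⟨v, hv.mono (by rw [if_pos hn])⟩

theorem sp_ten (n : ℕ) (hn : 4 ≤ n) :
    ∃ v : Fin 10 → Matrix.symplecticGroup (Fin n) F, HasPres v 58 := by
  obtain ⟨v, hv⟩ := sp_large (F := F) n hn
  exact hasPres_pad hv

theorem sp_three : ∃ v : Fin 8 → Matrix.symplecticGroup (Fin 3) F, HasPres v 52 := by
  obtain ⟨u, hu⟩ := tiny 3 le_rfl false
  obtain ⟨v, hv⟩ := core (F := F) le_rfl (hu.map (symEquiv 3))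
  exact ⟨v, hv.mono (by norm_num)⟩

/-- Two generators. -/
theorem psp_two (m : ℕ) (hm : 2 ≤ m) {a b : Cfsg.PSp m F}
    (hab : Subgroup.closure ({a, b} : Set (Cfsg.PSp m F)) = ⊤) : HasPres ![a, b] 80 := by
  rcases hm.eq_or_lt with rfl | h
  · obtain ⟨R, hR, ⟨e⟩⟩ := (CfsgLib.SpFourPresent.main (F := F)).2
    exact ((HasPres.pair (v := fun i => e (PresentedGroup.of i)) ⟨R, hR, e, fun i => rfl⟩ hab)).mono
      (by norm_num)
  · rcases Nat.lt_or_ge m 4 with h4 | h4
    · obtain rfl : m = 3 := by omega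
      obtain ⟨v, hv⟩ := sp_three (F := F)
      obtain ⟨w, hw⟩ := psp_of_sp hv
      exact (hw.pair hab).mono (by norm_num)
    · obtain ⟨v, hv⟩ := sp_large (F := F) m h4
      obtain ⟨w, hw⟩ := psp_of_sp hv
      exact (hw.pair hab).mono (by norm_num)

end CfsgLib.SpPresent
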