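import Cfsg.Agent.Lib.SpPresent.Emb

/-!
Identities, stabiliser and generators in `Sp_4`.
-/

set_option autoImplicit false
set_option linter.unusedSectionVars false
set_option linter.unusedSimpArgs false
set_option linter.unusedTactic false
set_option linter.unreachableTactic false
set_option linter.unnecessarySeqFocus false

namespace CfsgLib.SpPresent

open Matrix Cfsg CfsgLib.Sp SLTwoPresent CfsgLib.SpFourPresent

variable {F : Type*} [Field F]

local notation "Sp4" => Matrix.symplecticGroup (Fin 2) F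
local notation "SL2" => Matrix.SpecialLinearGroup (Fin 2) F

/-- The lower unipotent element of `SL_2`. -/
def ll (t : F) : SL2 := ⟨!![1, 0; t, 1], by simp [Matrix.det_fin_two]⟩

theorem mul_apply_elim (A B : Sp4) (v : Fin 2 ⊕ Fin 2 → F) :
    (A * B).1 *ᵥ v = A.1 *ᵥ (B.1 *ᵥ v) := by
  rw [Submonoid.coe_mul, ← mulVec_mulVec]

theorem dd_entries (l : Fˣ) : (dd l : SL2).1 0 0 = (l : F) ∧ (dd l : SL2).1 0 1 = 0 ∧
    (dd l : SL2).1 1 0 = 0 ∧ (dd l : SL2).1 1 1 = (l : F)⁻¹ := by simp [dd]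

theorem ww_entries : (ww : SL2).1 0 0 = 0 ∧ (ww : SL2).1 0 1 = 1 ∧ (ww : SL2).1 1 0 = -1 ∧
    (ww : SL2).1 1 1 = 0 := by simp [ww]

theorem uu_entries (t : F) : (uu t : SL2).1 0 0 = 1 ∧ (uu t : SL2).1 0 1 = t ∧
    (uu t : SL2).1 1 0 = 0 ∧ (uu t : SL2).1 1 1 = 1 := by simp [uu]

theorem eA_dd_rm (l : Fˣ) (t : F) : eA (dd l) * rm t = rm ((l : F) * t) * eA (dd l) :=
  eq_of_elim fun a b c d => by
    obtain ⟨h1, h2, h3, h4⟩ := dd_entries l
    simp only [mul_apply_elim, eA_apply, rm_apply, h1, h2, h3, h4, zero_mul, add_zero, zero_add]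
    have hl : (l : F) ≠ 0 := l.ne_zero
    funext x; rcases x with x | x <;> fin_cases x <;> simp <;> field_simp <;> ring

theorem eA_dd_rp (l : Fˣ) (t : F) : eA (dd l) * rp t = rp ((l : F) * t) * eA (dd l) :=
  eq_of_elim fun a b c d => by
    obtain ⟨h1, h2, h3, h4⟩ := dd_entries l
    simp only [mul_apply_elim, eA_apply, rp_apply, h1, h2, h3, h4, zero_mul, add_zero, zero_add]
    have hl : (l : F) ≠ 0 := l.ne_zero
    funext x; rcases x with x | x <;> fin_cases x <;> simp <;> field_simp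

theorem embB_dd_rm (l : Fˣ) (t : F) : embB (dd l) * rm t = rm ((l : F)⁻¹ * t) * embB (dd l) :=
  eq_of_elim fun a b c d => by
    obtain ⟨h1, h2, h3, h4⟩ := dd_entries l
    simp only [mul_apply_elim, embB_apply, rm_apply, h1, h2, h3, h4, zero_mul, add_zero, zero_add]
    have hl : (l : F) ≠ 0 := l.ne_zero
    funext x; rcases x with x | x <;> fin_cases x <;> simp <;> field_simp <;> ring

theorem embB_dd_rp (l : Fˣ) (t : F) : embB (dd l) * rp t = rp ((l : F) * t) * embB (dd l) :=
  eq_of_elim fun a b c d => by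
    obtain ⟨h1, h2, h3, h4⟩ := dd_entries l
    simp only [mul_apply_elim, embB_apply, rp_apply, h1, h2, h3, h4, zero_mul, add_zero, zero_add]
    have hl : (l : F) ≠ 0 := l.ne_zero
    funext x; rcases x with x | x <;> fin_cases x <;> simp <;> field_simp

theorem embB_ww_rm (t : F) : embB ww * rm t = rp (-t) * embB (ww : SL2) :=
  eq_of_elim fun a b c d => by
    obtain ⟨h1, h2, h3, h4⟩ := ww_entries (F := F)
    simp only [mul_apply_elim, embB_apply, rm_apply, rp_apply, h1, h2, h3, h4, zero_mul, add_zero, zero_add]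
    funext x; rcases x with x | x <;> fin_cases x <;> simp <;> ring

theorem embB_ww_rp (t : F) : embB ww * rp t = rm t * embB (ww : SL2) :=
  eq_of_elim fun a b c d => by
    obtain ⟨h1, h2, h3, h4⟩ := ww_entries (F := F)
    simp only [mul_apply_elim, embB_apply, rm_apply, rp_apply, h1, h2, h3, h4, zero_mul, add_zero, zero_add]
    funext x; rcases x with x | x <;> fin_cases x <;> simp <;> ring

theorem τ_rp (t : F) : τ (rp t) = rp t :=
  eq_of_elim fun a b c d => by
    simp only [τ_apply, rp_apply]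
    funext x; rcases x with x | x <;> fin_cases x <;> simp

theorem sw_mul_sw : (sw : Sp4) * sw = 1 :=
  eq_of_elim fun a b c d => by
    simp only [mul_apply_elim, sw_apply, Submonoid.coe_one, one_mulVec]

theorem sw_inv : (sw : Sp4)⁻¹ = sw := inv_eq_of_mul_eq_one_right sw_mul_sw

theorem sw_conj (M : Sp4) : sw * M * sw⁻¹ = τ M :=
  eq_of_elim fun a b c d => by
    rw [sw_inv, mul_apply_elim, mul_apply_elim, sw_apply, τ_apply,
      show M.1 *ᵥ Sum.elim ![b, a] ![d, c] = Sum.elim
        ![(M.1 *ᵥ Sum.elim ![b, a] ![d, c]) (.inl 0), (M.1 *ᵥ Sum.elim ![b, a] ![d, c]) (.inl 1)]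
        ![(M.1 *ᵥ Sum.elim ![b, a] ![d, c]) (.inr 0), (M.1 *ᵥ Sum.elim ![b, a] ![d, c]) (.inr 1)] by
        funext x; rcases x with x | x <;> fin_cases x <;> rfl, sw_apply]
    funext x; rcases x with x | x <;> fin_cases x <;> rfl

theorem τ_sw : τ (sw : Sp4) = sw := by rw [← sw_conj, mul_inv_cancel_right]

theorem rm_add (s t : F) : rm (s + t) = rm s * rm t := by rw [rm, uu_add, map_mul]; rfl

theorem rm_zero : rm (0 : F) = 1 := by rw [rm, uu_zero, map_one]

theorem rp_add (s t : F) : rp (s + t) = rp s * rp t := by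
  rw [rp, rp, rp, sieg_mul, zero_add]

theorem rp_zero : rp (0 : F) = 1 := by
  have h := rp_add (0 : F) 0
  rw [add_zero] at h
  exact left_eq_mul.1 h

theorem rp_rm (s t : F) : rp t * rm s = eA (uu (-(2 * s * t))) * rm s * rp t :=
  eq_of_elim fun a b c d => by
    obtain ⟨h1, h2, h3, h4⟩ := uu_entries (-(2 * s * t))
    simp only [mul_apply_elim, eA_apply, rm_apply, rp_apply, h1, h2, h3, h4, zero_mul, add_zero, zero_add]
    funext x; rcases x with x | x <;> fin_cases x <;> simp <;> ring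

theorem eA_uu_rm (z t : F) : Commute (eA (uu z)) (rm t) :=
  eq_of_elim fun a b c d => by
    obtain ⟨h1, h2, h3, h4⟩ := uu_entries z
    simp only [mul_apply_elim, eA_apply, rm_apply, h1, h2, h3, h4, zero_mul, add_zero, zero_add]
    funext x; rcases x with x | x <;> fin_cases x <;> simp <;> ring

theorem eA_uu_rp (z t : F) : Commute (eA (uu z)) (rp t) :=
  eq_of_elim fun a b c d => by
    obtain ⟨h1, h2, h3, h4⟩ := uu_entries z
    simp only [mul_apply_elim, eA_apply, rp_apply, h1, h2, h3, h4, zero_mul, add_zero, zero_add]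
    funext x; rcases x with x | x <;> fin_cases x <;> simp <;> ring

theorem embB_uu_τ_rm (z t : F) : Commute (embB (uu z)) (τ (rm t)) := by
  rw [← τ_eA]
  exact (eA_uu_rm z t).map τ

theorem eA_embB (M N : SL2) : Commute (eA M) (embB N) :=
  eq_of_elim fun a b c d => by
    simp only [mul_apply_elim, eA_apply, embB_apply]

/-- The first basis vector. -/
abbrev ev : Fin 2 ⊕ Fin 2 → F := Sum.elim ![1, 0] ![0, 0]

theorem exists_stab_decomp {m : Sp4} (hm : m.1 *ᵥ ev = ev) :
    ∃ (z a y : F) (M : SL2), m = eA (uu z) * rm a * rp y * embB M := by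
  have hv : ∀ v : Fin 2 ⊕ Fin 2 → F,
      v = Sum.elim ![v (.inl 0), v (.inl 1)] ![v (.inr 0), v (.inr 1)] := fun v => by
    funext x; rcases x with x | x <;> fin_cases x <;> rfl
  set v := m.1 *ᵥ Sum.elim ![(0 : F), 0] ![1, 0] with hvdef
  have hc : v (.inr 0) = 1 := by
    have h := sympForm_mulVec m ev (Sum.elim ![(0 : F), 0] ![1, 0])
    rw [hm, ← hvdef, sympForm_eq_sum, sympForm_eq_sum, Fin.sum_univ_two, Fin.sum_univ_two] at h
    simpa using h
  set a := -v (.inr 1) with ha
  set y := v (.inl 1) with hy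
  set z := v (.inl 0) - a * y with hz
  set P := eA (uu z) * rm a * rp y with hP
  obtain ⟨u1, u2, u3, u4⟩ := uu_entries z
  have hPe : P.1 *ᵥ ev = ev := by
    simp only [hP, mul_apply_elim, ev, eA_apply, rm_apply, rp_apply, u1, u2, u3, u4]
    funext x; rcases x with x | x <;> fin_cases x <;> simp
  have hPf : P.1 *ᵥ Sum.elim ![(0 : F), 0] ![1, 0] = v := by
    rw [hv v]
    simp only [hP, mul_apply_elim, eA_apply, rm_apply, rp_apply, u1, u2, u3, u4]
    funext x; rcases x with x | x <;> fin_cases x <;> simp [ha, hy, hz, hc]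
  set k := P⁻¹ * m with hk
  have hkP : m = P * k := by rw [hk, mul_inv_cancel_left]
  have hke : k.1 *ᵥ ev = ev := by
    rw [hk, mul_apply_elim, hm]
    conv_lhs => rw [← hPe, ← mul_apply_elim, inv_mul_cancel, Submonoid.coe_one, one_mulVec]
  have hkf : k.1 *ᵥ Sum.elim ![(0 : F), 0] ![1, 0] = Sum.elim ![(0 : F), 0] ![1, 0] := by
    rw [hk, mul_apply_elim, ← hvdef]
    conv_lhs => rw [← hPf, ← mul_apply_elim, inv_mul_cancel, Submonoid.coe_one, one_mulVec]
  set p := k.1 *ᵥ Sum.elim ![(0 : F), 1] ![0, 0] with hp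
  set q := k.1 *ᵥ Sum.elim ![(0 : F), 0] ![0, 1] with hq
  have hp1 : p (.inr 0) = 0 := by
    have h := sympForm_mulVec k ev (Sum.elim ![(0 : F), 1] ![0, 0])
    rw [hke, ← hp, sympForm_eq_sum, sympForm_eq_sum, Fin.sum_univ_two, Fin.sum_univ_two] at h
    simpa using h
  have hp2 : p (.inl 0) = 0 := by
    have h := sympForm_mulVec k (Sum.elim ![(0 : F), 0] ![1, 0]) (Sum.elim ![(0 : F), 1] ![0, 0])
    rw [hkf, ← hp, sympForm_eq_sum, sympForm_eq_sum, Fin.sum_univ_two, Fin.sum_univ_two] at h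
    simpa using h
  have hq1 : q (.inr 0) = 0 := by
    have h := sympForm_mulVec k ev (Sum.elim ![(0 : F), 0] ![0, 1])
    rw [hke, ← hq, sympForm_eq_sum, sympForm_eq_sum, Fin.sum_univ_two, Fin.sum_univ_two] at h
    simpa using h
  have hq2 : q (.inl 0) = 0 := by
    have h := sympForm_mulVec k (Sum.elim ![(0 : F), 0] ![1, 0]) (Sum.elim ![(0 : F), 0] ![0, 1])
    rw [hkf, ← hq, sympForm_eq_sum, sympForm_eq_sum, Fin.sum_univ_two, Fin.sum_univ_two] at h
    simpa using h
  have hdet : p (.inl 1) * q (.inr 1) - q (.inl 1) * p (.inr 1) = 1 := by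
    have h := sympForm_mulVec k (Sum.elim ![(0 : F), 1] ![0, 0]) (Sum.elim ![(0 : F), 0] ![0, 1])
    rw [← hp, ← hq, sympForm_eq_sum, sympForm_eq_sum, Fin.sum_univ_two, Fin.sum_univ_two] at h
    simp [hp1, hp2, hq1, hq2] at h
    linear_combination -h
  let M : SL2 := ⟨!![p (.inl 1), q (.inl 1); p (.inr 1), q (.inr 1)],
    by rw [Matrix.det_fin_two_of]; linear_combination hdet⟩
  refine ⟨z, a, y, M, ?_⟩
  rw [hkP, hP]
  congr 1
  refine eq_of_elim fun a b c d => ?_
  rw [show Sum.elim ![a, b] ![c, d] = a • ev + b • Sum.elim ![(0 : F), 1] ![0, 0] +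
      c • Sum.elim ![(0 : F), 0] ![1, 0] + d • Sum.elim ![(0 : F), 0] ![0, 1] by
    funext x; rcases x with x | x <;> fin_cases x <;> simp]
  simp only [mulVec_add, mulVec_smul, hke, hkf, ← hp, ← hq, embB_apply, ev]
  funext x
  rcases x with x | x <;> fin_cases x <;> simp [M, hp1, hp2, hq1, hq2]

theorem sl_two_top {K : Subgroup SL2} (hu : ∀ t, uu t ∈ K) (hl : ∀ t, ll t ∈ K) : K = ⊤ := by
  have key : ∀ M : SL2, M.1 1 0 ≠ 0 → M ∈ K := by
    intro M hc
    have hdet : M.1 0 0 * M.1 1 1 - M.1 0 1 * M.1 1 0 = 1 := det_two_eq M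
    have e : M = uu ((M.1 0 0 - 1) / M.1 1 0) * ll (M.1 1 0) * uu ((M.1 1 1 - 1) / M.1 1 0) := by
      apply Subtype.ext
      simp only [Matrix.SpecialLinearGroup.coe_mul]
      ext i j
      fin_cases i <;> fin_cases j <;>
        simp [uu, ll, Matrix.mul_apply, Fin.sum_univ_two] <;> field_simp <;>
        first | linear_combination hdet | linear_combination -hdet | ring
    rw [e]
    exact K.mul_mem (K.mul_mem (hu _) (hl _)) (hu _)
  refine eq_top_iff.2 fun M _ => ?_
  by_cases hc : M.1 1 0 = 0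
  · have ha : M.1 0 0 ≠ 0 := fun ha => by
      have hdet : M.1 0 0 * M.1 1 1 - M.1 0 1 * M.1 1 0 = 1 := det_two_eq M
      rw [ha, hc] at hdet
      simp at hdet
    have h := key (ll 1 * M) (by
      rw [Matrix.SpecialLinearGroup.coe_mul, Matrix.mul_apply, Fin.sum_univ_two]
      simpa [ll, hc] using ha)
    have h2 := K.mul_mem (K.inv_mem (hl 1)) h
    rwa [inv_mul_cancel_left] at h2
  · exact key M hc

theorem τ_rm (t : F) : τ (rm t) = embA (ll t) :=
  eq_of_elim fun a b c d => by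
    simp only [τ_apply, rm_apply, coe_embA, fromBlocks_mulVec]
    funext x; rcases x with x | x <;> fin_cases x <;>
      simp [ll, Matrix.vecHead, Matrix.vecTail] <;> ring

/-- Generators of `Sp_4`. -/
theorem sp_four_top {K : Subgroup Sp4} (hA : ∀ M : SL2, eA M ∈ K) (hB : ∀ M : SL2, embB M ∈ K)
    (hr : rm (1 : F) ∈ K) (hs : (sw : Sp4) ∈ K) : K = ⊤ := by
  have hrt : ∀ t, rm t ∈ K := fun t => by
    rcases eq_or_ne t 0 with rfl | ht
    · rw [rm_zero]; exact K.one_mem
    · have h := eA_dd_rm (Units.mk0 t ht) 1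
      rw [mul_one, Units.val_mk0, ← mul_inv_eq_iff_eq_mul] at h
      rw [← h]
      exact K.mul_mem (K.mul_mem (hA _) hr) (K.inv_mem (hA _))
  have htop : K.comap embA = ⊤ := sl_two_top (fun t => hrt t) fun t => by
    show embA (ll t) ∈ K
    rw [← τ_rm, ← sw_conj]
    exact K.mul_mem (K.mul_mem hs (hrt t)) (K.inv_mem hs)
  exact eq_top_of_emb (fun M => by
    have h : M ∈ K.comap embA := htop ▸ Subgroup.mem_top M
    exact h) hB

theorem embB_rm (M : SL2) (t : F) : embB M * rm t =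
    eA (uu (t ^ 2 * M.1 1 1 * M.1 0 1)) * rm (t * M.1 1 1) * rp (-(t * M.1 0 1)) * embB M :=
  eq_of_elim fun a b c d => by
    have hdet : M.1 0 0 * M.1 1 1 - M.1 0 1 * M.1 1 0 = 1 := det_two_eq M
    obtain ⟨h1, h2, h3, h4⟩ := uu_entries (t ^ 2 * M.1 1 1 * M.1 0 1)
    simp only [mul_apply_elim, eA_apply, embB_apply, rm_apply, rp_apply, h1, h2, h3, h4, zero_mul,
      add_zero, zero_add]
    funext x; rcases x with x | x <;> fin_cases x <;> simp <;>
      first | linear_combination -(t * b) * hdet | linear_combination (t * b) * hdet | ring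

theorem embB_rp (M : SL2) (t : F) : embB M * rp t =
    eA (uu (t ^ 2 * M.1 1 0 * M.1 0 0)) * rm (-(t * M.1 1 0)) * rp (t * M.1 0 0) * embB M :=
  eq_of_elim fun a b c d => by
    have hdet : M.1 0 0 * M.1 1 1 - M.1 0 1 * M.1 1 0 = 1 := det_two_eq M
    obtain ⟨h1, h2, h3, h4⟩ := uu_entries (t ^ 2 * M.1 1 0 * M.1 0 0)
    simp only [mul_apply_elim, eA_apply, embB_apply, rm_apply, rp_apply, h1, h2, h3, h4, zero_mul,
      add_zero, zero_add]
    funext x; rcases x with x | x <;> fin_cases x <;> simp <;>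
      first | linear_combination -(t * d) * hdet | linear_combination (t * d) * hdet | ring

end CfsgLib.SpPresent
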