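import Cfsg.Agent.Lib.SpPresent.Data

/-!
A group with `CData` embeds into the symplectic group.
-/

set_option autoImplicit false
set_option linter.unusedSectionVars false

namespace CfsgLib.SpPresent

open Matrix Cfsg CfsgLib.Sp SLTwoPresent CfsgLib.SpFourPresent

variable {F : Type*} [Field F] {n : ℕ}

local notation "Sp4" => Matrix.symplecticGroup (Fin 2) F
local notation "SL2" => Matrix.SpecialLinearGroup (Fin 2) F

/-- The first basis vector of the index `i`. -/
def ee (i : Fin n) : Fin n ⊕ Fin n → F := Pi.single (Sum.inl i) 1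

/-- Supported on `T`. -/
def Supp (T : Finset (Fin n)) (v : Fin n ⊕ Fin n → F) : Prop := ∀ x, idx x ∉ T → v x = 0

namespace CData

variable {G : Type*} [Group G] (D : CData n F G)

/-- The action. -/
def act (g : G) (v : Fin n ⊕ Fin n → F) : Fin n ⊕ Fin n → F := (D.π g).1 *ᵥ v

theorem act_mul (g h : G) (v : Fin n ⊕ Fin n → F) : D.act (g * h) v = D.act g (D.act h v) := by
  rw [act, map_mul, Submonoid.coe_mul, ← mulVec_mulVec]; rfl

theorem act_one (v : Fin n ⊕ Fin n → F) : D.act 1 v = v := by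
  rw [act, map_one, Submonoid.coe_one, one_mulVec]

theorem act_inv {g : G} {v w : Fin n ⊕ Fin n → F} (h : D.act g v = w) : D.act g⁻¹ w = v := by
  rw [← h, ← act_mul, inv_mul_cancel, act_one]

theorem act_add (g : G) (u v : Fin n ⊕ Fin n → F) : D.act g (u + v) = D.act g u + D.act g v :=
  mulVec_add _ _ _

theorem act_smul (g : G) (c : F) (v : Fin n ⊕ Fin n → F) : D.act g (c • v) = c • D.act g v :=
  mulVec_smul _ _ _

include D in
theorem exists_ne (i : Fin n) : ∃ j, i ≠ j := by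
  by_contra h
  push Not at h
  have := D.two
  have h0 := h ⟨0, by omega⟩
  have h1 := h ⟨1, by omega⟩
  rw [h0] at h1
  simp [Fin.ext_iff] at h1

theorem φ_act_out {i j : Fin n} (h : i ≠ j) (m : Sp4) (v : Fin n ⊕ Fin n → F)
    {x : Fin n ⊕ Fin n} (hi : idx x ≠ i) (hj : idx x ≠ j) : D.act (D.φ i j m) v x = v x := by
  rw [act, D.π_φ i j h]
  refine emb_out _ _ _ fun k => ?_
  fin_cases k
  exacts [hi.symm, hj.symm]

theorem φ_act_elim {i j : Fin n} (h : i ≠ j) (m : Sp4) (v : Fin n ⊕ Fin n → F) (a : Fin 2 ⊕ Fin 2) :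
    D.act (D.φ i j m) v (cm (pr i j h) a) =
      (m.1 *ᵥ Sum.elim ![v (.inl i), v (.inl j)] ![v (.inr i), v (.inr j)]) a := by
  rw [act, D.π_φ i j h, emb_in]
  congr 2
  funext b
  rcases b with b | b <;> fin_cases b <;> rfl

theorem L_act (i : Fin n) (M : SL2) (v : Fin n ⊕ Fin n → F) :
    D.act (D.L i M) v (.inl i) = M.1 0 0 * v (.inl i) + M.1 0 1 * v (.inr i) ∧
    D.act (D.L i M) v (.inr i) = M.1 1 0 * v (.inl i) + M.1 1 1 * v (.inr i) ∧
    ∀ x, idx x ≠ i → D.act (D.L i M) v x = v x := by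
  obtain ⟨j, hij⟩ := D.exists_ne i
  rw [← D.φ_eA i j hij]
  refine ⟨?_, ?_, fun x hx => ?_⟩
  · have := D.φ_act_elim hij (eA M) v (.inl 0)
    rw [eA_apply] at this
    simpa using this
  · have := D.φ_act_elim hij (eA M) v (.inr 0)
    rw [eA_apply] at this
    simpa using this
  · by_cases hxj : idx x = j
    · rcases x with x | x <;> change x = j at hxj <;> subst hxj
      · have := D.φ_act_elim hij (eA M) v (.inl 1)
        rw [eA_apply] at this
        simpa using this
      · have := D.φ_act_elim hij (eA M) v (.inr 1)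
        rw [eA_apply] at this
        simpa using this
    · exact D.φ_act_out hij _ v hx hxj

/-- Elements of `GS S` only move the coordinates in `S`. -/
theorem GS_local {S : Finset (Fin n)} {g : G} (hg : g ∈ D.GS S) :
    (∀ v x, idx x ∉ S → D.act g v x = v x) ∧
      ∀ v : Fin n ⊕ Fin n → F, (∀ x, idx x ∈ S → v x = 0) → D.act g v = v := by
  induction hg using Subgroup.closure_induction with
  | mem g hg =>
    rcases hg with ⟨i, hi, M, rfl⟩ | ⟨i, hi, j, hj, hij, m, rfl⟩
    · obtain ⟨-, -, h⟩ := D.L_act i M (0 : Fin n ⊕ Fin n → F)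
      refine ⟨fun v x hx => (D.L_act i M v).2.2 x fun e => hx (e ▸ hi), fun v hv => ?_⟩
      funext x
      obtain ⟨h1, h2, h3⟩ := D.L_act i M v
      have hl := hv (.inl i) hi
      have hr := hv (.inr i) hi
      by_cases hx : idx x = i
      · rcases x with x | x <;> change x = i at hx <;> subst hx
        · rw [h1, hl, hr]; ring
        · rw [h2, hl, hr]; ring
      · exact h3 x hx
    · refine ⟨fun v x hx => D.φ_act_out hij m v (fun e => hx (e ▸ hi)) (fun e => hx (e ▸ hj)),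
        fun v hv => ext_cm (f := pr i j hij) (fun a => ?_) fun x hx => ?_⟩
      · rw [D.φ_act_elim hij, hv (.inl i) hi, hv (.inl j) hj, hv (.inr i) hi, hv (.inr j) hj]
        rw [show Sum.elim ![(0 : F), 0] ![0, 0] = 0 by
          funext b; rcases b with b | b <;> fin_cases b <;> rfl, mulVec_zero]
        symm
        rcases a with a | a <;> fin_cases a <;> first | exact hv _ hi | exact hv _ hj
      · exact D.φ_act_out hij m v (fun e => hx 0 e.symm) (fun e => hx 1 e.symm)
  | one => exact ⟨fun v x _ => by rw [act_one], fun v _ => act_one D v⟩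
  | mul u w _ _ hu hw =>
    exact ⟨fun v x hx => by rw [act_mul, hu.1 _ x hx, hw.1 _ x hx],
      fun v hv => by rw [act_mul, hw.2 v hv, hu.2 v hv]⟩
  | inv u _ hu =>
    refine ⟨fun v x hx => ?_, fun v hv => D.act_inv (hu.2 v hv)⟩
    have := hu.1 (D.act u⁻¹ v) x hx
    rw [← act_mul, mul_inv_cancel, act_one] at this
    exact this.symm

theorem supp_ee {T : Finset (Fin n)} {i : Fin n} (hi : i ∈ T) : Supp T (ee (F := F) i) := fun x hx => by
  refine Pi.single_eq_of_ne (fun h => hx ?_) 1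
  rw [h]; exact hi

theorem supp_act {T : Finset (Fin n)} {g : G} (hg : g ∈ D.GS T) {v : Fin n ⊕ Fin n → F}
    (hv : Supp T v) : Supp T (D.act g v) := fun x hx => by
  rw [(D.GS_local hg).1 v x hx, hv x hx]

theorem act_ne_zero (g : G) {v : Fin n ⊕ Fin n → F} (hv : v ≠ 0) : D.act g v ≠ 0 := fun h => hv (by
  rw [← D.act_inv h]; exact mulVec_zero _)

theorem ee_ne_zero (i : Fin n) : (ee (F := F) i) ≠ 0 := fun h => by
  have := congrFun h (Sum.inl i)
  simp [ee] at this

/-- `x₁₀`: maps `e_β` to `e_β + e_c`. -/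
theorem x_act {β c : Fin n} (h : c ≠ β) (v : Fin n ⊕ Fin n → F) :
    D.act (D.φ c β (rm 1)) v (.inl c) = v (.inl c) + v (.inl β) ∧
      D.act (D.φ c β (rm 1)) v (.inl β) = v (.inl β) ∧
      D.act (D.φ c β (rm 1)) v (.inr β) = v (.inr β) - v (.inr c) ∧
      D.act (D.φ c β (rm 1)) v (.inr c) = v (.inr c) := by
  have e := fun a => (D.φ_act_elim h (rm (1 : F)) v a).trans (by rw [rm_apply])
  exact ⟨by simpa using e (.inl 0), by simpa using e (.inl 1), by simpa using e (.inr 1),
    by simpa using e (.inr 0)⟩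

theorem x_act_ee {β c : Fin n} (h : c ≠ β) :
    D.act (D.φ c β (rm 1)) (ee β) = ee β + ee c := by
  obtain ⟨h1, h2, h3, h4⟩ := D.x_act h (ee (F := F) β)
  funext x
  by_cases hxc : idx x = c
  · rcases x with x | x <;> change x = c at hxc <;> subst hxc
    · rw [h1]; simp [ee, h]
    · rw [h4]; simp [ee]
  by_cases hxb : idx x = β
  · rcases x with x | x <;> change x = β at hxb <;> subst hxb
    · rw [h2]; simp [ee, h.symm]
    · rw [h3]; simp [ee]
  rw [D.φ_act_out h _ _ hxc hxb]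
  have : ee (F := F) c x = 0 := Pi.single_eq_of_ne (fun e => hxc (by rw [e]; rfl)) 1
  simp [this]

theorem sw_act {β c : Fin n} (h : β ≠ c) (v : Fin n ⊕ Fin n → F) (x : Fin n ⊕ Fin n) :
    D.act (D.φ β c sw) v x = v (Sum.map (Equiv.swap β c) (Equiv.swap β c) x) := by
  have e := fun a => (D.φ_act_elim h (sw : Sp4) v a).trans (by rw [sw_apply])
  by_cases hxb : idx x = β
  · rcases x with x | x <;> change x = β at hxb <;> subst hxb
    · simpa using e (.inl 0)
    · simpa using e (.inr 0)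
  by_cases hxc : idx x = c
  · rcases x with x | x <;> change x = c at hxc <;> subst hxc
    · simpa using e (.inl 1)
    · simpa using e (.inr 1)
  rw [D.φ_act_out h _ _ hxb hxc]
  rcases x with x | x <;>
    simp [Equiv.swap_apply_of_ne_of_ne (show x ≠ β from hxb) (show x ≠ c from hxc)]

theorem sw_act_ee {β c : Fin n} (h : β ≠ c) : D.act (D.φ β c sw) (ee β) = ee c := by
  funext x
  rw [D.sw_act h]
  rcases x with x | x
  · rcases eq_or_ne x c with rfl | hxc
    · simp [ee]
    · have : Equiv.swap β c x ≠ β := by rw [Ne, Equiv.swap_apply_eq_iff]; simpa using hxc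
      simp [ee, this, hxc]
  · simp [ee]

theorem sw_symm {i j : Fin n} (h : i ≠ j) : D.φ j i sw = D.φ i j sw := by
  rw [D.φ_swap i j h, τ_sw]

theorem sw_sq (i j : Fin n) : D.φ i j sw * D.φ i j sw = 1 := by
  rw [← map_mul, sw_mul_sw, map_one]

theorem sw_inv' (i j : Fin n) : (D.φ i j sw)⁻¹ = D.φ i j sw := by rw [← map_inv, sw_inv]

theorem GS_insert_le {S T : Finset (Fin n)} {β c : Fin n} {K : Subgroup G} (hcT : c ∈ T)
    (hS : ∀ i ∈ S, i = β ∨ i ∈ T) (hT : ∃ d ∈ T, d ≠ c) (hβ : β ∉ T) (hK : D.GS T ≤ K)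
    (hs : D.φ β c sw ∈ K) : D.GS S ≤ K := by
  have hβc : β ≠ c := fun e => hβ (e ▸ hcT)
  have hconj : ∀ g ∈ K, ∀ y ∈ K, g * y * g⁻¹ ∈ K := fun g hg y hy =>
    K.mul_mem (K.mul_mem hg hy) (K.inv_mem hg)
  have hL : ∀ M, D.L β M ∈ K := fun M => by
    have h := hconj _ hs _ (hK (D.φ_mem hcT hT.choose_spec.1 hT.choose_spec.2.symm (eA M)))
    have hdβ : hT.choose ≠ β := fun e => hβ (e ▸ hT.choose_spec.1)
    rwa [D.swap_conj β c c hT.choose hβc hT.choose_spec.2.symm, Equiv.swap_apply_right,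
      Equiv.swap_apply_of_ne_of_ne hdβ hT.choose_spec.2, D.φ_eA β _ hdβ.symm] at h
  have h1 : ∀ j ∈ T, j ≠ c → ∀ m, D.φ β j m ∈ K := fun j hj hjc m => by
    have h := hconj _ hs _ (hK (D.φ_mem hcT hj hjc.symm m))
    have hjβ : j ≠ β := fun e => hβ (e ▸ hj)
    rwa [D.swap_conj β c c j hβc hjc.symm, Equiv.swap_apply_right,
      Equiv.swap_apply_of_ne_of_ne hjβ hjc] at h
  have h2 : ∀ j ∈ T, ∀ m, D.φ β j m ∈ K := fun j hj m => by
    rcases eq_or_ne j c with rfl | hjc
    · obtain ⟨d, hd, hdc⟩ := hT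
      have h := hconj _ (hK (D.φ_mem hd hj hdc sw)) _ (h1 d hd hdc m)
      have hdβ : d ≠ β := fun e => hβ (e ▸ hd)
      rwa [D.swap_conj d j β d hdc hdβ.symm, Equiv.swap_apply_left,
        Equiv.swap_apply_of_ne_of_ne hdβ.symm hβc] at h
    · exact h1 j hj hjc m
  refine D.GS_le (fun i hi M => ?_) fun i hi j hj hij m => ?_
  · rcases hS i hi with rfl | hi
    exacts [hL M, hK (D.L_mem hi M)]
  · rcases hS i hi with rfl | hi <;> rcases hS j hj with rfl | hj
    · exact absurd rfl hij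
    · exact h2 j hj m
    · rw [D.φ_swap j i hij.symm]; exact h2 i hi _
    · exact hK (D.φ_mem hi hj hij m)

theorem exists_col (p q : F) (h : p ≠ 0 ∨ q ≠ 0) : ∃ M : SL2, M.1 0 0 = p ∧ M.1 1 0 = q :=
  exists_sl2_col p q h

theorem L_act_ee (i : Fin n) (M : SL2) : D.act (D.L i M) (ee i) =
    Pi.single (Sum.inl i) (M.1 0 0) + Pi.single (Sum.inr i) (M.1 1 0) := by
  obtain ⟨h1, h2, h3⟩ := D.L_act i M (ee (F := F) i)
  funext x
  by_cases hx : idx x = i
  · rcases x with x | x <;> change x = i at hx <;> subst hx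
    · rw [h1]; simp [ee]
    · rw [h2]; simp [ee]
  · rw [h3 x hx, Pi.add_apply]
    rcases x with x | x <;> simp [ee, show x ≠ i from hx]

/-- Split off the coordinates of `β`. -/
def rest (β : Fin n) (v : Fin n ⊕ Fin n → F) : Fin n ⊕ Fin n → F :=
  fun x => if idx x = β then 0 else v x

theorem split (β : Fin n) (v : Fin n ⊕ Fin n → F) :
    v = Pi.single (Sum.inl β) (v (.inl β)) + Pi.single (Sum.inr β) (v (.inr β)) + rest β v := by
  funext x
  rcases x with x | x <;> by_cases h : x = β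
  · subst h; simp [rest, idx]
  · simp [rest, idx, h]
  · subst h; simp [rest, idx]
  · simp [rest, idx, h]

theorem supp_rest {S : Finset (Fin n)} {β : Fin n} {v : Fin n ⊕ Fin n → F} (hv : Supp S v) :
    Supp (S.erase β) (rest β v) := fun x hx => by
  unfold rest
  split_ifs with h
  · rfl
  · exact hv x fun h' => hx (Finset.mem_erase.2 ⟨h, h'⟩)

theorem transitive : ∀ (S : Finset (Fin n)) (β : Fin n), β ∈ S → ∀ v, Supp S v → v ≠ 0 →
    ∃ g ∈ D.GS S, D.act g (ee β) = v := by
  intro S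
  induction S using Finset.strongInduction with
  | H S ih =>
    intro β hβ v hv hv0
    by_cases hr : rest β v = 0
    · have hb : v (.inl β) ≠ 0 ∨ v (.inr β) ≠ 0 := by
        by_contra h
        push Not at h
        apply hv0
        rw [split β v, h.1, h.2, hr]
        simp
      obtain ⟨M, h1, h2⟩ := exists_col _ _ hb
      refine ⟨D.L β M, D.L_mem hβ M, ?_⟩
      rw [L_act_ee, h1, h2]
      conv_rhs => rw [split β v, hr, add_zero]
    · obtain ⟨c, hc⟩ : (S.erase β).Nonempty := by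
        by_contra h
        rw [Finset.not_nonempty_iff_eq_empty] at h
        exact hr (funext fun x => supp_rest hv x (by rw [h]; simp))
      obtain ⟨hcβ, hcS⟩ := Finset.mem_erase.1 hc
      obtain ⟨h, hh, hh1⟩ := ih _ (Finset.erase_ssubset hβ) c hc (rest β v) (supp_rest hv) hr
      have hh' : h ∈ D.GS S := D.GS_mono (Finset.erase_subset _ _) hh
      by_cases hb : v (.inl β) = 0 ∧ v (.inr β) = 0
      · refine ⟨h * D.φ β c sw, mul_mem hh' (D.φ_mem hβ hcS hcβ.symm _), ?_⟩
        rw [act_mul, sw_act_ee D hcβ.symm, hh1]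
        conv_rhs => rw [split β v, hb.1, hb.2]
        simp
      · obtain ⟨M, h1, h2⟩ := exists_col (v (.inl β)) (v (.inr β)) (by tauto)
        refine ⟨D.L β M * h * D.φ c β (rm 1),
          mul_mem (mul_mem (D.L_mem hβ M) hh') (D.φ_mem hcS hβ hcβ _), ?_⟩
        rw [act_mul, act_mul, x_act_ee D hcβ, act_add, hh1, (D.GS_local hh).2 (ee β) (fun x hx => by
          refine Pi.single_eq_of_ne (fun e => ?_) 1
          rw [e] at hx
          exact (Finset.mem_erase.1 hx).1 rfl), act_add, L_act_ee, h1, h2,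
          (D.GS_local (D.L_mem (Finset.mem_singleton_self β) M)).2 (rest β v) (fun x hx => by
            simp [rest, Finset.mem_singleton.1 hx])]
        conv_rhs => rw [split β v]

/-- The stabiliser candidate. -/
def PS (T : Finset (Fin n)) (β : Fin n) : Subgroup G := D.QS T β ⊔ D.GS T

theorem φ_stab_mem {T : Finset (Fin n)} {β j : Fin n} (hj : j ∈ T) (hne : β ≠ j) {m : Sp4}
    (hm : m.1 *ᵥ ev = ev) : D.φ β j m ∈ D.PS T β := by
  obtain ⟨z, a, y, M, rfl⟩ := exists_stab_decomp hm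
  rw [map_mul]
  refine mul_mem (Subgroup.mem_sup_left (D.rad_mem hj hne z a y)) ?_
  rw [D.φ_embB hne]
  exact Subgroup.mem_sup_right (D.L_mem hj M)

theorem PS_exists {T : Finset (Fin n)} {β : Fin n} (hβ : β ∉ T) {g : G} (hg : g ∈ D.PS T β) :
    ∃ q ∈ D.QS T β, ∃ h ∈ D.GS T, g = q * h := by
  let K : Subgroup G :=
    { carrier := {g | ∃ q ∈ D.QS T β, ∃ h ∈ D.GS T, g = q * h}
      one_mem' := ⟨1, one_mem _, 1, one_mem _, (one_mul 1).symm⟩
      mul_mem' := by
        rintro _ _ ⟨q, hq, h, hh, rfl⟩ ⟨q', hq', h', hh', rfl⟩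
        exact ⟨q * (h * q' * h⁻¹), mul_mem hq (D.QS_norm hβ hh hq'), h * h', mul_mem hh hh',
          by group⟩
      inv_mem' := by
        rintro _ ⟨q, hq, h, hh, rfl⟩
        exact ⟨h⁻¹ * q⁻¹ * h⁻¹⁻¹, D.QS_norm hβ (inv_mem hh) (inv_mem hq), h⁻¹, inv_mem hh,
          by group⟩ }
  have hle : D.PS T β ≤ K := sup_le (fun q hq => ⟨q, hq, 1, one_mem _, (mul_one q).symm⟩)
    fun h hh => ⟨1, one_mem _, h, hh, (one_mul h).symm⟩
  exact hle hg

theorem φ_range_eq {β j : Fin n} (hne : β ≠ j) {g : G} (hg : g ∈ D.GS {β, j}) :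
    ∃ m, D.φ β j m = g := by
  have hle : D.GS {β, j} ≤ (D.φ β j).range := by
    refine D.GS_le (fun i hi M => ?_) fun a ha b hb hab m => ?_
    · simp only [Finset.mem_insert, Finset.mem_singleton] at hi
      rcases hi with rfl | rfl
      · exact ⟨eA M, D.φ_eA i j hne M⟩
      · exact ⟨embB M, D.φ_embB hne M⟩
    · simp only [Finset.mem_insert, Finset.mem_singleton] at ha hb
      rcases ha with rfl | rfl <;> rcases hb with rfl | rfl
      exacts [absurd rfl hab, ⟨m, rfl⟩, ⟨τ m, (D.φ_swap b a hab.symm m).symm⟩, absurd rfl hab]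
  exact hle hg

theorem φ_injective {i j : Fin n} (h : i ≠ j) : Function.Injective (D.φ i j) := fun a b e =>
  emb_injective (pr i j h) (by rw [← D.π_φ i j h, ← D.π_φ i j h, e])

theorem L_range {β : Fin n} {g : G} (hg : g ∈ D.GS {β}) : ∃ M, D.L β M = g := by
  have hle : D.GS {β} ≤ (D.L β).range := D.GS_le
    (fun i hi M => ⟨M, by rw [Finset.mem_singleton.1 hi]⟩)
    fun a ha b hb hab m => absurd ((Finset.mem_singleton.1 ha).trans (Finset.mem_singleton.1 hb).symm) hab
  exact hle hg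

/-- An element of the radical is determined by the image of `f_β`. -/
theorem QS_coord : ∀ (T : Finset (Fin n)) (β : Fin n), β ∉ T → ∀ q ∈ D.QS T β,
    D.act q (Pi.single (Sum.inr β) 1) = Pi.single (Sum.inr β) (1 : F) → q = 1 := by
  intro T
  induction T using Finset.induction_on with
  | empty =>
    intro β _ q hq hfix
    have hle : D.QS ∅ β ≤ (D.L β).range := (Subgroup.closure_le _).2 (by
      rintro x (⟨z, rfl⟩ | ⟨j, hj, -⟩)
      exacts [⟨_, rfl⟩, absurd hj (Finset.notMem_empty j)])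
    have hz : ∀ {x}, x ∈ D.QS ∅ β → ∃ z, D.L β (uu z) = x := by
      intro x hx
      induction hx using Subgroup.closure_induction with
      | mem x hx =>
        rcases hx with h | ⟨j, hj, -⟩
        exacts [h, absurd hj (Finset.notMem_empty j)]
      | one => exact ⟨0, by rw [uu_zero, map_one]⟩
      | mul u v _ _ hu hv =>
        obtain ⟨a, rfl⟩ := hu
        obtain ⟨b, rfl⟩ := hv
        exact ⟨a + b, by rw [uu_add, map_mul]⟩
      | inv u _ hu =>
        obtain ⟨a, rfl⟩ := hu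
        exact ⟨-a, eq_inv_of_mul_eq_one_left (by
          rw [← map_mul, ← uu_add, neg_add_cancel, uu_zero, map_one])⟩
    obtain ⟨z, rfl⟩ := hz hq
    have := congrFun hfix (Sum.inl β)
    rw [(D.L_act β (uu z) _).1] at this
    simp [uu] at this
    rw [this, uu_zero, map_one]
  | @insert j T hjT ih =>
    intro β hβ q hq hfix
    rw [Finset.mem_insert, not_or] at hβ
    obtain ⟨hne, hβT⟩ := hβ
    -- split off the index `j`
    have hrad : ∀ t : Sp4, (∃ z a y, t = eA (uu z) * rm a * rp y) → D.φ β j t ∈ D.QS {j} β := by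
      rintro _ ⟨z, a, y, rfl⟩
      exact D.rad_mem (Finset.mem_singleton_self j) hne z a y
    let Rad : Subgroup Sp4 :=
      { carrier := {t | ∃ z a y, t = eA (uu z) * rm a * rp y}
        one_mem' := ⟨0, 0, 0, by rw [uu_zero, map_one, rm_zero, rp_zero, mul_one, mul_one]⟩
        mul_mem' := by
          rintro _ _ ⟨z, a, y, rfl⟩ ⟨z', a', y', rfl⟩
          refine ⟨z + z' + -(2 * a' * y), a + a', y + y', ?_⟩
          rw [uu_add, uu_add, map_mul, map_mul, rm_add, rp_add]
          calc eA (uu z) * rm a * rp y * (eA (uu z') * rm a' * rp y')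
              = eA (uu z) * rm a * (rp y * eA (uu z')) * rm a' * rp y' := by group
            _ = eA (uu z) * (rm a * eA (uu z')) * (rp y * rm a') * rp y' := by
                rw [← (eA_uu_rp z' y).eq]; group
            _ = eA (uu z) * eA (uu z') * (rm a * eA (uu (-(2 * a' * y)))) * rm a' * rp y * rp y' := by
                rw [← (eA_uu_rm z' a).eq, rp_rm]; group
            _ = _ := by rw [← (eA_uu_rm _ a).eq]; group
        inv_mem' := by
          rintro _ ⟨z, a, y, rfl⟩
          refine ⟨-z + -(2 * (-a) * (-y)), -a, -y, ?_⟩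
          refine inv_eq_of_mul_eq_one_right ?_
          rw [uu_add, map_mul]
          calc eA (uu z) * rm a * rp y * (eA (uu (-z)) * eA (uu (-(2 * -a * -y))) * rm (-a) * rp (-y))
              = eA (uu z) * rm a * (rp y * eA (uu (-z))) * eA (uu (-(2 * -a * -y))) * rm (-a) *
                  rp (-y) := by group
            _ = eA (uu z) * (rm a * eA (uu (-z))) * (rp y * eA (uu (-(2 * -a * -y)))) * rm (-a) *
                  rp (-y) := by rw [← (eA_uu_rp (-z) y).eq]; group
            _ = eA (uu z) * eA (uu (-z)) * (rm a * eA (uu (-(2 * -a * -y)))) * (rp y * rm (-a)) *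
                  rp (-y) := by rw [← (eA_uu_rm (-z) a).eq, ← (eA_uu_rp _ y).eq]; group
            _ = eA (uu z) * eA (uu (-z)) * eA (uu (-(2 * -a * -y))) *
                  (rm a * eA (uu (-(2 * -a * y)))) * rm (-a) * (rp y * rp (-y)) := by
                rw [← (eA_uu_rm _ a).eq, rp_rm]; group
            _ = eA (uu z) * eA (uu (-z)) * eA (uu (-(2 * -a * -y))) * eA (uu (-(2 * -a * y))) *
                  (rm a * rm (-a)) * (rp y * rp (-y)) := by rw [← (eA_uu_rm _ a).eq]; group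
            _ = 1 := by
                rw [← map_mul, ← map_mul, ← map_mul, ← uu_add, ← uu_add, ← uu_add, ← rm_add,
                  ← rp_add, show z + -z + -(2 * -a * -y) + -(2 * -a * y) = 0 by ring, uu_zero]
                simp [rm_zero, rp_zero] }
    set N := Rad.map (D.φ β j) with hN
    have hnorm : ∀ t ∈ N, ∀ x ∈ D.QS T β, t * x * t⁻¹ ∈ D.QS T β := by
      rintro _ ⟨_, ⟨z, a, y, rfl⟩, rfl⟩ x hx
      have hc : ∀ w ∈ D.QS T β, Commute (D.φ β j (eA (uu z) * rm a * rp y)) w := by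
        intro w hw
        induction hw using Subgroup.closure_induction with
        | mem w hw =>
          rcases hw with ⟨u, rfl⟩ | ⟨l, hl, hw⟩
          · rw [← D.φ_eA β j hne]
            refine Commute.map ?_ _
            refine ((Commute.mul_left ?_ (eA_uu_rm u a).symm).mul_left (eA_uu_rp u y).symm)
            show eA (uu z) * eA (uu u) = eA (uu u) * eA (uu z)
            rw [← map_mul, ← map_mul, ← uu_add, ← uu_add, add_comm]
          · have hlj : j ≠ l := fun e => hjT (e ▸ hl)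
            have hlβ : β ≠ l := fun e => hβT (e ▸ hl)
            rw [map_mul, map_mul, D.φ_eA β j hne]
            refine (Commute.mul_left ?_ (D.comm_R hne hlβ hlj ⟨a, Or.inl rfl⟩ hw)).mul_left
              (D.comm_R hne hlβ hlj ⟨y, Or.inr rfl⟩ hw)
            obtain ⟨s, rfl | rfl⟩ := hw <;> rw [← D.φ_eA β l hlβ]
            exacts [(eA_uu_rm z s).map _, (eA_uu_rp z s).map _]
        | one => exact Commute.one_right _
        | mul _ _ _ _ h1 h2 => exact h1.mul_right h2
        | inv _ _ h1 => exact h1.inv_right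
      rw [(hc x hx).eq, mul_inv_cancel_right]
      exact hx
    have hdec : ∃ q1 ∈ D.QS T β, ∃ t ∈ N, q = q1 * t := by
      let K : Subgroup G :=
        { carrier := {g | ∃ q1 ∈ D.QS T β, ∃ t ∈ N, g = q1 * t}
          one_mem' := ⟨1, one_mem _, 1, one_mem _, (one_mul 1).symm⟩
          mul_mem' := by
            rintro _ _ ⟨q, hq, t, ht, rfl⟩ ⟨q', hq', t', ht', rfl⟩
            exact ⟨q * (t * q' * t⁻¹), mul_mem hq (hnorm t ht q' hq'), t * t', mul_mem ht ht',
              by group⟩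
          inv_mem' := by
            rintro _ ⟨q, hq, t, ht, rfl⟩
            exact ⟨t⁻¹ * q⁻¹ * t⁻¹⁻¹, hnorm _ (inv_mem ht) _ (inv_mem hq), t⁻¹, inv_mem ht,
              by group⟩ }
      have hle : D.QS (insert j T) β ≤ K := (Subgroup.closure_le _).2 (by
        rintro x (⟨z, rfl⟩ | ⟨l, hl, hx⟩)
        · exact ⟨_, D.uu_mem z, 1, one_mem _, (mul_one _).symm⟩
        · rw [Finset.mem_insert] at hl
          rcases hl with rfl | hl
          · refine ⟨1, one_mem _, x, ?_, (one_mul x).symm⟩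
            obtain ⟨s, rfl | rfl⟩ := hx
            · exact ⟨_, ⟨0, s, 0, rfl⟩, by rw [uu_zero, map_one, one_mul, rp_zero, mul_one]⟩
            · exact ⟨_, ⟨0, 0, s, rfl⟩, by rw [uu_zero, map_one, one_mul, rm_zero, one_mul]⟩
          · exact ⟨x, D.R_mem hl hx, 1, one_mem _, (mul_one _).symm⟩)
      exact hle hq
    obtain ⟨q1, hq1, _, ⟨_, ⟨z, a, y, rfl⟩, rfl⟩, rfl⟩ := hdec
    set w := D.act (D.φ β j (eA (uu z) * rm a * rp y)) (Pi.single (Sum.inr β) (1 : F)) with hw
    rw [act_mul, ← hw] at hfix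
    have hjout : j ∉ insert β T := by
      rw [Finset.mem_insert, not_or]; exact ⟨Ne.symm hne, hjT⟩
    have hloc := (D.GS_local (D.QS_le_GS hβT hq1)).1 w
    have hjl : w (.inl j) = 0 := by
      rw [← hloc (.inl j) hjout, hfix]; simp
    have hjr : w (.inr j) = 0 := by
      rw [← hloc (.inr j) hjout, hfix]
      exact Pi.single_eq_of_ne (fun e => hne (Sum.inr_injective e).symm) 1
    have e1 := D.φ_act_elim hne (eA (uu z) * rm a * rp y) (Pi.single (Sum.inr β) (1 : F))
    have hy : y = 0 := by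
      have h := e1 (.inl 1)
      rw [← hw, show cm (pr β j hne) (Sum.inl 1) = (Sum.inl j : Fin n ⊕ Fin n) from rfl, hjl] at h
      rw [mul_apply_elim, mul_apply_elim, rp_apply, rm_apply, eA_apply] at h
      simpa [uu, Ne.symm hne, Pi.single_apply] using h.symm
    have ha : a = 0 := by
      have h := e1 (.inr 1)
      rw [← hw, show cm (pr β j hne) (Sum.inr 1) = (Sum.inr j : Fin n ⊕ Fin n) from rfl, hjr] at h
      rw [mul_apply_elim, mul_apply_elim, rp_apply, rm_apply, eA_apply] at h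
      simpa [uu, Ne.symm hne, Pi.single_apply] using h.symm
    subst hy ha
    rw [rm_zero, rp_zero, mul_one, mul_one, D.φ_eA β j hne]
    refine ih β hβT _ (mul_mem hq1 (D.uu_mem z)) ?_
    rw [rm_zero, rp_zero, mul_one, mul_one, D.φ_eA β j hne] at hw
    rw [act_mul, ← hw, hfix]

theorem comm_GS {U : Finset (Fin n)} {a b : Fin n} (hab : a ≠ b) (ha : a ∉ U) (hb : b ∉ U) {y : G}
    (hy : y ∈ D.GS U) (m : Sp4) : Commute (D.φ a b m) y := by
  induction hy using Subgroup.closure_induction with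
  | mem y hy =>
    rcases hy with ⟨i, hi, M, rfl⟩ | ⟨i, hi, j, hj, hij, m', rfl⟩
    · exact (D.disjL i a b hab (fun e => ha (e ▸ hi)) (fun e => hb (e ▸ hi)) M m).symm
    · exact D.disj a b i j hab hij (fun e => ha (e ▸ hi)) (fun e => ha (e ▸ hj))
        (fun e => hb (e ▸ hi)) (fun e => hb (e ▸ hj)) m m'
  | one => exact Commute.one_right _
  | mul _ _ _ _ h1 h2 => exact h1.mul_right h2
  | inv _ _ h1 => exact h1.inv_right

theorem L_comm {U : Finset (Fin n)} {β : Fin n} (hβ : β ∉ U) {y : G} (hy : y ∈ D.GS U) (M : SL2) :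
    Commute (D.L β M) y := by
  induction hy using Subgroup.closure_induction with
  | mem y hy =>
    rcases hy with ⟨i, hi, N, rfl⟩ | ⟨i, hi, j, hj, hij, m', rfl⟩
    · have hib : β ≠ i := fun e => hβ (e ▸ hi)
      rw [← D.φ_eA β i hib, ← D.φ_embB hib]
      exact (eA_embB _ _).map _
    · exact D.disjL β i j hij (fun e => hβ (e ▸ hi)) (fun e => hβ (e ▸ hj)) _ _
  | one => exact Commute.one_right _
  | mul _ _ _ _ e1 e2 => exact e1.mul_right e2
  | inv _ _ e1 => exact e1.inv_right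

/-- The admissible representatives. -/
def Adm (T : Finset (Fin n)) (β c : Fin n) (v : Fin n ⊕ Fin n → F) (a : G) : Prop :=
  (∃ M : SL2, rest β v = 0 ∧ M.1 0 0 = v (.inl β) ∧ M.1 1 0 = v (.inr β) ∧ a = D.L β M) ∨
  (∃ h ∈ D.GS T, v (.inl β) = 0 ∧ v (.inr β) = 0 ∧ D.act h (ee c) = rest β v ∧
    a = h * D.φ β c sw) ∨
  (∃ M : SL2, ∃ h ∈ D.GS T, M.1 0 0 = v (.inl β) ∧ M.1 1 0 = v (.inr β) ∧
    D.act h (ee c) = rest β v ∧ a = D.L β M * h * D.φ c β (rm 1))

theorem col_ne_zero (M : SL2) : ¬(M.1 0 0 = 0 ∧ M.1 1 0 = 0) := by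
  rintro ⟨h1, h2⟩
  have := det_two_eq M
  rw [h1, h2] at this
  simp at this

theorem same_col {M M' : SL2} (h0 : M.1 0 0 = M'.1 0 0) (h1 : M.1 1 0 = M'.1 1 0) :
    ∃ z, M' = M * uu z := by
  set P := M⁻¹ * M' with hP
  have hM' : M' = M * P := by rw [hP, mul_inv_cancel_left]
  have hc : ∀ i, M'.1 i 0 = M.1 i 0 * P.1 0 0 + M.1 i 1 * P.1 1 0 := fun i => by
    rw [hM', Matrix.SpecialLinearGroup.coe_mul, Matrix.mul_apply, Fin.sum_univ_two]
  have hd := det_two_eq M
  have hdP := det_two_eq P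
  have e0 := hc 0
  have e1 := hc 1
  rw [← h0] at e0
  rw [← h1] at e1
  have hp0 : P.1 0 0 = 1 := by linear_combination (-M.1 1 1) * e0 + M.1 0 1 * e1 + (1 - P.1 0 0) * hd
  have hp1 : P.1 1 0 = 0 := by linear_combination M.1 1 0 * e0 - M.1 0 0 * e1 - P.1 1 0 * hd
  refine ⟨P.1 0 1, ?_⟩
  rw [hM']
  congr 1
  apply Subtype.ext
  ext i j
  fin_cases i <;> fin_cases j <;> simp [uu, hp0, hp1]
  rw [hp0, hp1] at hdP
  linear_combination hdP

/-- Main statement for a set of indices. -/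
def Good (S : Finset (Fin n)) : Prop :=
  (∀ g ∈ D.GS S, (∀ v, D.act g v = v) → g = 1) ∧
    ∀ β ∈ S, ∀ g ∈ D.GS S, D.act g (ee β) = ee β → g ∈ D.PS (S.erase β) β

theorem adm_unique {T : Finset (Fin n)} {β c : Fin n} (hβ : β ∉ T) (hc : c ∈ T)
    (hT : ∀ g ∈ D.GS T, D.act g (ee c) = ee c → g ∈ D.PS (T.erase c) c)
    {v : Fin n ⊕ Fin n → F} {a a' : G} (ha : D.Adm T β c v a) (ha' : D.Adm T β c v a') :
    a⁻¹ * a' ∈ D.PS T β := by
  have hcb : c ≠ β := fun e => hβ (e ▸ hc)
  set x := D.φ c β (rm 1) with hx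
  set σ := D.φ β c sw with hσ
  -- both conjugates of the stabiliser of `e_c` lie in `P`
  have hkey : ∀ s ∈ D.GS T, D.act s (ee c) = ee c →
      σ⁻¹ * s * σ ∈ D.PS T β ∧ x⁻¹ * s * x ∈ D.PS T β := by
    intro s hs hse
    let K : Subgroup G := (D.PS T β).comap (MulAut.conj σ⁻¹).toMonoidHom ⊓
      (D.PS T β).comap (MulAut.conj x⁻¹).toMonoidHom
    have hle : D.PS (T.erase c) c ≤ K := by
      have mk : ∀ y, σ⁻¹ * y * σ ∈ D.PS T β → x⁻¹ * y * x ∈ D.PS T β → y ∈ K := fun y h1 h2 =>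
        ⟨by simpa using h1, by simpa using h2⟩
      refine sup_le ((Subgroup.closure_le _).2 ?_) fun y hy => ?_
      · rintro y (⟨z, rfl⟩ | ⟨j, hj, hy⟩)
        · refine mk _ ?_ ?_
          · rw [hσ, ← D.φ_embB hcb.symm, ← map_inv, ← map_mul, ← map_mul,
              show sw⁻¹ * embB (uu z) * sw = eA (uu z) by
                rw [eA, MonoidHom.comp_apply, ← sw_conj, sw_inv], D.φ_eA β c hcb.symm]
            exact Subgroup.mem_sup_left (D.uu_mem z)
          · rw [hx, ← D.φ_eA c β hcb, ← map_inv, ← map_mul, ← map_mul, mul_assoc (rm 1)⁻¹,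
              (eA_uu_rm z 1).eq, inv_mul_cancel_left, D.φ_eA c β hcb]
            exact Subgroup.mem_sup_right (D.L_mem hc _)
        · obtain ⟨hjc, hjT⟩ := Finset.mem_erase.1 hj
          have hjb : j ≠ β := fun e => hβ (e ▸ hjT)
          refine mk _ ?_ ?_
          · obtain ⟨t, rfl | rfl⟩ := hy
            all_goals
              rw [hσ, D.sw_inv']
              have := fun m => D.swap_conj β c c j hcb.symm hjc.symm m
              simp only [D.sw_inv', Equiv.swap_apply_right,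
                Equiv.swap_apply_of_ne_of_ne hjb hjc] at this
              rw [this]
            exacts [Subgroup.mem_sup_left (D.R_mem hjT ⟨t, Or.inl rfl⟩),
              Subgroup.mem_sup_left (D.R_mem hjT ⟨t, Or.inr rfl⟩)]
          · have hcm : Commute x y := D.comm_R hcb hjc.symm hjb.symm ⟨1, Or.inl rfl⟩ hy
            rw [mul_assoc, ← hcm.eq, inv_mul_cancel_left]
            obtain ⟨t, rfl | rfl⟩ := hy <;>
              exact Subgroup.mem_sup_right (D.φ_mem hc hjT hjc.symm _)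
      · have hcomm : ∀ y ∈ D.GS (T.erase c), ∀ m, Commute (D.φ c β m) y := fun y hy m =>
          D.comm_GS hcb (Finset.notMem_erase c T) (fun e => hβ (Finset.mem_of_mem_erase e)) hy m
        have hyP : y ∈ D.PS T β :=
          Subgroup.mem_sup_right (D.GS_mono (Finset.erase_subset _ _) hy)
        refine mk _ ?_ ?_
        · rw [mul_assoc, show y * σ = σ * y from (by
            rw [hσ, ← D.sw_symm hcb.symm]; exact (hcomm y hy sw).eq.symm), inv_mul_cancel_left]
          exact hyP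
        · rw [mul_assoc, ← (hcomm y hy (rm 1)).eq, inv_mul_cancel_left]
          exact hyP
    obtain ⟨h1, h2⟩ := hle (hT s hs hse)
    exact ⟨by simpa using h1, by simpa using h2⟩
  have hne : ∀ h ∈ D.GS T, D.act h (ee c) = rest β v → rest β v ≠ 0 := fun h _ e e0 =>
    D.act_ne_zero h (ee_ne_zero c) (e.trans e0)
  rcases ha with ⟨M, hr, h1, h2, rfl⟩ | ⟨h, hh, h1, h2, he, rfl⟩ | ⟨M, h, hh, h1, h2, he, rfl⟩ <;>
    rcases ha' with ⟨M', hr', h1', h2', rfl⟩ | ⟨h', hh', h1', h2', he', rfl⟩ |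
      ⟨M', h', hh', h1', h2', he', rfl⟩
  · obtain ⟨z, rfl⟩ := same_col (h1.trans h1'.symm) (h2.trans h2'.symm)
    rw [map_mul, inv_mul_cancel_left]
    exact Subgroup.mem_sup_left (D.uu_mem z)
  · exact absurd hr (hne h' hh' he')
  · exact absurd hr (hne h' hh' he')
  · exact absurd hr' (hne h hh he)
  · have := (hkey (h⁻¹ * h') (mul_mem (inv_mem hh) hh') (by
      rw [act_mul, he', D.act_inv he])).1
    rwa [show (h * D.φ β c sw)⁻¹ * (h' * D.φ β c sw) = σ⁻¹ * (h⁻¹ * h') * σ by rw [hσ]; group]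
  · exact absurd ⟨h1'.trans h1, h2'.trans h2⟩ (col_ne_zero M')
  · exact absurd hr' (hne h hh he)
  · exact absurd ⟨h1.trans h1', h2.trans h2'⟩ (col_ne_zero M)
  · obtain ⟨z, rfl⟩ := same_col (h1.trans h1'.symm) (h2.trans h2'.symm)
    have hs := (hkey (h⁻¹ * h') (mul_mem (inv_mem hh) hh') (by
      rw [act_mul, he', D.act_inv he])).2
    have hcomm : Commute (D.L β (uu z)) h := D.L_comm hβ hh _
    have huu : x⁻¹ * D.L β (uu z) * x ∈ D.PS T β := by
      rw [hx, D.φ_swap β c hcb.symm, ← D.φ_eA β c hcb.symm, ← map_inv, ← map_mul, ← map_mul]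
      refine D.φ_stab_mem hc hcb.symm ?_
      have h1 : (τ (rm (1 : F))).1 *ᵥ ev = Sum.elim ![1, 1] ![0, 0] := by
        rw [ev, τ_apply, rm_apply]
        funext u; rcases u with u | u <;> fin_cases u <;> simp
      rw [mul_apply_elim, mul_apply_elim, h1, eA_apply]
      have h2 : Sum.elim ![(uu z : SL2).1 0 0 * 1 + (uu z : SL2).1 0 1 * 0, 1]
          ![(uu z : SL2).1 1 0 * 1 + (uu z : SL2).1 1 1 * 0, 0] = (τ (rm (1 : F))).1 *ᵥ ev := by
        rw [h1]
        funext u; rcases u with u | u <;> fin_cases u <;> simp [uu]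
      rw [h2, ← mul_apply_elim, inv_mul_cancel, Submonoid.coe_one, one_mulVec]
    have := mul_mem huu hs
    rwa [show (D.L β M * h * D.φ c β (rm 1))⁻¹ * (D.L β (M * uu z) * h' * D.φ c β (rm 1)) =
      x⁻¹ * D.L β (uu z) * x * (x⁻¹ * (h⁻¹ * h') * x) by
        rw [map_mul, hx]
        calc _ = (D.φ c β (rm 1))⁻¹ * (h⁻¹ * (D.L β (uu z) * h)) * (h⁻¹ * h') *
              D.φ c β (rm 1) := by group
          _ = _ := by rw [hcomm.eq]; group]

/-- The class of representatives of a vector. -/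
def Cl (T : Finset (Fin n)) (β c : Fin n) (v : Fin n ⊕ Fin n → F) (g : G) : Prop :=
  ∃ a, D.Adm T β c v a ∧ a⁻¹ * g ∈ D.PS T β

theorem cl_of_adm {T : Finset (Fin n)} {β c : Fin n} {v : Fin n ⊕ Fin n → F} {a : G}
    (h : D.Adm T β c v a) : D.Cl T β c v a := ⟨a, h, by rw [inv_mul_cancel]; exact one_mem _⟩

theorem cl_mul {T : Finset (Fin n)} {β c : Fin n} {v : Fin n ⊕ Fin n → F} {g p : G}
    (h : D.Cl T β c v g) (hp : p ∈ D.PS T β) : D.Cl T β c v (g * p) := by
  obtain ⟨a, ha, hg⟩ := h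
  exact ⟨a, ha, by rw [← mul_assoc]; exact mul_mem hg hp⟩

theorem cl_unique {T : Finset (Fin n)} {β c : Fin n} (hβ : β ∉ T) (hc : c ∈ T)
    (hT : ∀ g ∈ D.GS T, D.act g (ee c) = ee c → g ∈ D.PS (T.erase c) c)
    {v : Fin n ⊕ Fin n → F} {g g' : G} (h : D.Cl T β c v g) (h' : D.Cl T β c v g') :
    g⁻¹ * g' ∈ D.PS T β := by
  obtain ⟨a, ha, hg⟩ := h
  obtain ⟨a', ha', hg'⟩ := h'
  rw [show g⁻¹ * g' = (a⁻¹ * g)⁻¹ * (a⁻¹ * a') * (a'⁻¹ * g') by group]
  exact mul_mem (mul_mem (inv_mem hg) (D.adm_unique hβ hc hT ha ha')) hg'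

theorem adm_exists {T U : Finset (Fin n)} {β c : Fin n} (hU : U ⊆ T) (hc : c ∈ U) (hβ : β ∉ T)
    {v : Fin n ⊕ Fin n → F} (hv : Supp (insert β U) v) (hv0 : v ≠ 0) :
    ∃ a ∈ D.GS (insert β U), D.Adm T β c v a := by
  have hcβ : c ≠ β := fun e => hβ (e ▸ hU hc)
  have hins : D.GS U ≤ D.GS (insert β U) := D.GS_mono (Finset.subset_insert _ _)
  by_cases hr : rest β v = 0
  · have hb : v (.inl β) ≠ 0 ∨ v (.inr β) ≠ 0 := by
      by_contra h
      push Not at h
      exact hv0 (by rw [split β v, h.1, h.2, hr]; simp)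
    obtain ⟨M, h1, h2⟩ := exists_col _ _ hb
    exact ⟨_, D.L_mem (Finset.mem_insert_self _ _) M, Or.inl ⟨M, hr, h1, h2, rfl⟩⟩
  · have hs : Supp U (rest β v) := by
      have h := supp_rest (β := β) hv
      rwa [Finset.erase_insert (fun e => hβ (hU e))] at h
    obtain ⟨h, hh, hh1⟩ := D.transitive U c hc _ hs hr
    by_cases hb : v (.inl β) = 0 ∧ v (.inr β) = 0
    · exact ⟨_, mul_mem (hins hh) (D.φ_mem (Finset.mem_insert_self _ _)
        (Finset.mem_insert_of_mem hc) hcβ.symm sw),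
        Or.inr (Or.inl ⟨h, D.GS_mono hU hh, hb.1, hb.2, hh1, rfl⟩)⟩
    · obtain ⟨M, h1, h2⟩ := exists_col (v (.inl β)) (v (.inr β)) (by tauto)
      exact ⟨_, mul_mem (mul_mem (D.L_mem (Finset.mem_insert_self _ _) M) (hins hh))
        (D.φ_mem (Finset.mem_insert_of_mem hc) (Finset.mem_insert_self _ _) hcβ (rm 1)),
        Or.inr (Or.inr ⟨M, h, D.GS_mono hU hh, h1, h2, hh1, rfl⟩)⟩

theorem act_ee_fixed {U : Finset (Fin n)} {i : Fin n} (hi : i ∉ U) {g : G} (hg : g ∈ D.GS U) :
    D.act g (ee i) = ee i :=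
  (D.GS_local hg).2 _ fun x hx => Pi.single_eq_of_ne (fun e => hi (by rw [e] at hx; exact hx)) 1

theorem rest_ee {β i : Fin n} (h : i ≠ β) : rest β (ee (F := F) i) = ee i := by
  funext x
  unfold rest
  split_ifs with hx
  · symm
    exact Pi.single_eq_of_ne (fun e => h (by rw [e] at hx; exact hx)) 1
  · rfl

theorem rest_ee_self (β : Fin n) : rest β (ee (F := F) β) = 0 := by
  funext x
  unfold rest
  split_ifs with hx
  · rfl
  · exact Pi.single_eq_of_ne (fun e => hx (by rw [e]; rfl)) 1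

theorem rest_add (β : Fin n) (u v : Fin n ⊕ Fin n → F) : rest β (u + v) = rest β u + rest β v := by
  funext x
  simp only [rest, Pi.add_apply]
  split_ifs <;> simp

theorem φ_ee_fix {i j : Fin n} (h : i ≠ j) {m : Sp4} (hm : m.1 *ᵥ ev = ev) :
    D.act (D.φ i j m) (ee i) = ee i := by
  have hev : Sum.elim ![ee (F := F) i (.inl i), ee (F := F) i (.inl j)]
      ![ee (F := F) i (.inr i), ee (F := F) i (.inr j)] = ev := by
    simp [ee, ev, h.symm]
  refine ext_cm (f := pr i j h) (fun a => ?_) fun x hx => D.φ_act_out h m _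
    (fun e => hx 0 e.symm) (fun e => hx 1 e.symm)
  rw [D.φ_act_elim h, hev, hm]
  rcases a with a | a <;> fin_cases a <;> simp [ee, ev, h.symm]

theorem φ_fix_ev {i j : Fin n} (h : i ≠ j) {m : Sp4} (hm : D.act (D.φ i j m) (ee i) = ee i) :
    m.1 *ᵥ ev = ev := by
  have hev : Sum.elim ![ee (F := F) i (.inl i), ee (F := F) i (.inl j)]
      ![ee (F := F) i (.inr i), ee (F := F) i (.inr j)] = ev := by
    simp [ee, ev, h.symm]
  funext a
  have := D.φ_act_elim h m (ee i) a
  rw [hev, hm] at this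
  rw [← this]
  rcases a with a | a <;> fin_cases a <;> simp [ee, ev, h.symm]

theorem PS_fix {T : Finset (Fin n)} {β : Fin n} (hβ : β ∉ T) {g : G} (hg : g ∈ D.PS T β) :
    D.act g (ee β) = ee β := by
  let K : Subgroup G :=
    { carrier := {g | D.act g (ee β) = ee β}
      one_mem' := D.act_one _
      mul_mem' := fun {u v} (hu : D.act u _ = _) (hv : D.act v _ = _) =>
        show D.act (u * v) _ = _ by rw [act_mul, hv, hu]
      inv_mem' := fun {u} hu => D.act_inv hu }
  have hle : D.PS T β ≤ K := by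
    refine sup_le ((Subgroup.closure_le _).2 ?_) fun h hh => D.act_ee_fixed hβ hh
    rintro x (⟨z, rfl⟩ | ⟨j, hj, t, hx⟩)
    · show D.act _ _ = _
      rw [L_act_ee]; simp [uu, ee]
    · have hne : β ≠ j := fun e => hβ (e ▸ hj)
      rcases hx with rfl | rfl <;> refine D.φ_ee_fix hne ?_ <;>
        simp [ev, rm_apply, rp_apply]
  exact hle hg

theorem adm_act {T : Finset (Fin n)} {β c : Fin n} (hβ : β ∉ T) (hc : c ∈ T)
    {v : Fin n ⊕ Fin n → F} {a : G} (ha : D.Adm T β c v a) : D.act a (ee β) = v := by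
  have hbc : β ≠ c := fun e => hβ (e ▸ hc)
  have hLfix : ∀ M : SL2, D.act (D.L β M) (rest β v) = rest β v := fun M =>
    (D.GS_local (D.L_mem (Finset.mem_singleton_self β) M)).2 _ fun x hx => by
      simp [rest, Finset.mem_singleton.1 hx]
  rcases ha with ⟨M, hr, e1, e2, rfl⟩ | ⟨h, hh, e1, e2, he, rfl⟩ | ⟨M, h, hh, e1, e2, he, rfl⟩
  · rw [L_act_ee, e1, e2]
    conv_rhs => rw [split β v, hr, add_zero]
  · rw [act_mul, sw_act_ee D hbc, he]
    conv_rhs => rw [split β v, e1, e2]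
    simp
  · rw [act_mul, act_mul, x_act_ee D hbc.symm, act_add, he, D.act_ee_fixed hβ hh, act_add,
      L_act_ee, e1, e2, hLfix M]
    conv_rhs => rw [split β v]

theorem rest_act {T : Finset (Fin n)} {β : Fin n} (hβ : β ∉ T) {g : G} (hg : g ∈ D.GS T)
    (v : Fin n ⊕ Fin n → F) : rest β (D.act g v) = D.act g (rest β v) := by
  obtain ⟨hl, hf⟩ := D.GS_local hg
  funext x
  by_cases hx : idx x = β
  · rw [hl _ x (fun e => hβ (hx ▸ e))]
    simp [rest, hx]
  · have hA : D.act g (Pi.single (Sum.inl β) (v (.inl β)) + Pi.single (Sum.inr β) (v (.inr β))) =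
        Pi.single (Sum.inl β) (v (.inl β)) + Pi.single (Sum.inr β) (v (.inr β)) := by
      refine hf _ fun y hy => ?_
      have hyβ : idx y ≠ β := fun e => hβ (e ▸ hy)
      rcases y with y | y <;> simp [show y ≠ β from hyβ]
    unfold rest
    rw [if_neg hx]
    conv_lhs => rw [split β v, act_add, hA, Pi.add_apply]
    rcases x with x | x <;> simp [show x ≠ β from hx] <;> rfl

theorem cl_GS {T : Finset (Fin n)} {β c : Fin n} (hβ : β ∉ T) {g : G} (hg : g ∈ D.GS T)
    {v : Fin n ⊕ Fin n → F} {b : G} (hb : D.Cl T β c v b) :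
    D.Cl T β c (D.act g v) (g * b) := by
  obtain ⟨a, ha, hp⟩ := hb
  rw [show g * b = g * a * (a⁻¹ * b) by group]
  refine D.cl_mul ?_ hp
  obtain ⟨hl, hf⟩ := D.GS_local hg
  have h0 : D.act g v (.inl β) = v (.inl β) := hl v _ hβ
  have h1 : D.act g v (.inr β) = v (.inr β) := hl v _ hβ
  rcases ha with ⟨M, hr, e1, e2, rfl⟩ | ⟨h, hh, e1, e2, he, rfl⟩ | ⟨M, h, hh, e1, e2, he, rfl⟩
  · rw [← (D.L_comm hβ hg M).eq]
    refine D.cl_mul (D.cl_of_adm (Or.inl ⟨M, ?_, e1.trans h0.symm, e2.trans h1.symm, rfl⟩))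
      (Subgroup.mem_sup_right hg)
    rw [D.rest_act hβ hg, hr, act, mulVec_zero]
  · rw [← mul_assoc]
    exact D.cl_of_adm (Or.inr (Or.inl ⟨g * h, mul_mem hg hh, h0.trans e1, h1.trans e2,
      by rw [act_mul, he, D.rest_act hβ hg], rfl⟩))
  · rw [← mul_assoc, ← mul_assoc, ← (D.L_comm hβ hg M).eq, mul_assoc (D.L β M) g h]
    exact D.cl_of_adm (Or.inr (Or.inr ⟨M, g * h, mul_mem hg hh, e1.trans h0.symm,
      e2.trans h1.symm, by rw [act_mul, he, D.rest_act hβ hg], rfl⟩))

theorem cl_L {T : Finset (Fin n)} {β c : Fin n} (hβ : β ∉ T) (hc : c ∈ T) (N : SL2)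
    {v : Fin n ⊕ Fin n → F} {b : G} (hb : D.Cl T β c v b) :
    D.Cl T β c (D.act (D.L β N) v) (D.L β N * b) := by
  have hbc : β ≠ c := fun e => hβ (e ▸ hc)
  obtain ⟨a, ha, hp⟩ := hb
  rw [show D.L β N * b = D.L β N * a * (a⁻¹ * b) by group]
  refine D.cl_mul ?_ hp
  obtain ⟨hl, hr', ho⟩ := D.L_act β N v
  have hre : rest β (D.act (D.L β N) v) = rest β v := by
    funext x
    unfold rest
    split_ifs with hx
    · rfl
    · exact ho x hx
  have hcol : ∀ M : SL2, M.1 0 0 = v (.inl β) → M.1 1 0 = v (.inr β) →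
      (N * M).1 0 0 = D.act (D.L β N) v (.inl β) ∧ (N * M).1 1 0 = D.act (D.L β N) v (.inr β) := by
    intro M e1 e2
    rw [hl, hr', ← e1, ← e2, Matrix.SpecialLinearGroup.coe_mul]
    simp [Matrix.mul_apply, Fin.sum_univ_two]
  rcases ha with ⟨M, hr, e1, e2, rfl⟩ | ⟨h, hh, e1, e2, he, rfl⟩ | ⟨M, h, hh, e1, e2, he, rfl⟩
  · exact D.cl_of_adm (Or.inl ⟨N * M, hre.trans hr, (hcol M e1 e2).1, (hcol M e1 e2).2,
      (map_mul _ _ _).symm⟩)
  · have hconj : D.L β N * D.φ β c sw = D.φ β c sw * D.L c N := by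
      rw [← D.φ_eA β c hbc, ← D.φ_embB hbc, ← map_mul, ← map_mul, ← τ_eA, ← sw_conj, sw_inv]
      congr 1
      rw [← mul_assoc, ← mul_assoc, sw_mul_sw, one_mul]
    rw [← mul_assoc, (D.L_comm hβ hh N).eq, mul_assoc h, hconj, ← mul_assoc h]
    refine D.cl_mul (D.cl_of_adm (Or.inr (Or.inl ⟨h, hh, ?_, ?_, he.trans hre.symm, rfl⟩)))
      (Subgroup.mem_sup_right (D.L_mem hc N))
    · rw [hl, e1, e2]; ring
    · rw [hr', e1, e2]; ring
  · rw [← mul_assoc, ← mul_assoc, ← map_mul]
    exact D.cl_of_adm (Or.inr (Or.inr ⟨N * M, h, hh, (hcol M e1 e2).1, (hcol M e1 e2).2,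
      he.trans hre.symm, rfl⟩))

theorem sw_act_ee' {β c : Fin n} (h : β ≠ c) : D.act (D.φ β c sw) (ee c) = ee β := by
  rw [← D.sw_symm h, D.sw_act_ee h.symm]

theorem ee_inl (i : Fin n) : ee (F := F) i (.inl i) = 1 := Pi.single_eq_same _ _

theorem ee_inr (i j : Fin n) : ee (F := F) i (.inr j) = 0 := Pi.single_eq_of_ne (by simp) 1

theorem ee_inl' {i j : Fin n} (h : j ≠ i) : ee (F := F) i (.inl j) = 0 :=
  Pi.single_eq_of_ne (by simpa using h) 1

/-- The exchange of `β` and `c` on a vector in normal form. -/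
theorem cl_sw_normal {T : Finset (Fin n)} {β c d : Fin n} (hβ : β ∉ T) (hc : c ∈ T) (hd : d ∈ T)
    (hdc : d ≠ c) (p q : Bool) :
    ∃ a, D.Cl T β c ((bif p then ee β else 0) + (bif q then ee c else 0) + ee d) a ∧
      D.Cl T β c (D.act (D.φ β c sw) ((bif p then ee β else 0) + (bif q then ee c else 0) + ee d))
        (D.φ β c sw * a) := by
  have hbc : β ≠ c := fun e => hβ (e ▸ hc)
  have hbd : β ≠ d := fun e => hβ (e ▸ hd)
  have hcd : c ≠ d := hdc.symm
  have fd : D.act (D.φ β c sw) (ee d) = ee d :=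
    D.act_ee_fixed (U := {β, c}) (by simp [hbd.symm, hdc]) (D.φ_mem (by simp) (by simp) hbc _)
  have fc := D.sw_act_ee' hbc
  have fb := D.sw_act_ee hbc
  set σ := D.φ β c sw with hσ
  set σ' := D.φ c d sw with hσ'
  have hσσ : σ * σ = 1 := D.sw_sq β c
  have hσ'' : σ' * σ' = 1 := D.sw_sq c d
  have hσi : σ⁻¹ = σ := inv_eq_of_mul_eq_one_right hσσ
  have hσ'i : σ'⁻¹ = σ' := inv_eq_of_mul_eq_one_right hσ''
  have mσ' : σ' ∈ D.GS T := D.φ_mem hc hd hcd _
  have mx : D.φ d c (rm 1) ∈ D.GS T := D.φ_mem hd hc hdc _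
  have eσ' : D.act σ' (ee c) = ee d := D.sw_act_ee hcd
  have ex : D.act (D.φ d c (rm 1)) (ee c) = ee c + ee d := D.x_act_ee hdc
  have e2 : σ * D.φ d c (rm 1) * σ = D.φ d β (rm 1) := by
    have h := D.swap_conj β c d c hbc hdc (rm 1)
    rwa [← hσ, hσi, Equiv.swap_apply_right, Equiv.swap_apply_of_ne_of_ne hbd.symm hdc] at h
  have e3 : σ' * D.φ d β (rm 1) * σ' = D.φ c β (rm 1) := by
    have h := D.swap_conj c d d β hcd hbd.symm (rm 1)
    rwa [← hσ', hσ'i, Equiv.swap_apply_right, Equiv.swap_apply_of_ne_of_ne hbc hbd] at h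
  -- representatives of `e_c + e_d` and of `e_β + e_d`
  have key : σ * (D.φ d c (rm 1) * σ) = σ' * D.φ c β (rm 1) * σ' := by
    rw [← mul_assoc, e2, ← e3]
    simp only [mul_assoc, hσ'', mul_one, ← mul_assoc σ' σ', one_mul]
  have c01 : D.Cl T β c (ee c + ee d) (D.φ d c (rm 1) * σ) := by
    refine D.cl_of_adm (Or.inr (Or.inl ⟨_, mx, ?_, ?_, ?_, rfl⟩))
    · simp [ee_inl' hbc, ee_inl' hbd]
    · simp [ee_inr]
    · rw [rest_add, rest_ee hbc.symm, rest_ee hbd.symm, ex]
  have c10 : D.Cl T β c (ee β + ee d) (σ' * D.φ c β (rm 1)) := by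
    refine D.cl_of_adm (Or.inr (Or.inr ⟨1, σ', mσ', ?_, ?_, ?_, by rw [map_one, one_mul]⟩))
    · simp [ee_inl, ee_inl' hbd]
    · simp [ee_inr]
    · rw [rest_add, rest_ee_self, rest_ee hbd.symm, zero_add, eσ']
  cases p <;> cases q <;> simp only [cond_false, cond_true, zero_add, add_zero]
  · refine ⟨σ' * σ, D.cl_of_adm (Or.inr (Or.inl ⟨σ', mσ', ?_, ?_, ?_, rfl⟩)), ?_⟩
    · exact ee_inl' hbd
    · exact ee_inr _ _
    · rw [rest_ee hbd.symm, eσ']
    · have hconj : σ * σ' * σ = D.φ β d sw := by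
        have h := D.swap_conj β c c d hbc hcd sw
        rwa [← hσ, hσi, Equiv.swap_apply_right, Equiv.swap_apply_of_ne_of_ne hbd.symm hdc] at h
      have hconj2 : σ' * σ * σ' = D.φ β d sw := by
        have h := D.swap_conj c d β c hcd hbc sw
        rwa [← hσ', hσ'i, Equiv.swap_apply_left, Equiv.swap_apply_of_ne_of_ne hbc hbd] at h
      rw [fd, ← mul_assoc, hconj, ← hconj2]
      exact D.cl_mul (D.cl_of_adm (Or.inr (Or.inl ⟨σ', mσ', ee_inl' hbd, ee_inr _ _,
        by rw [rest_ee hbd.symm, eσ'], rfl⟩))) (Subgroup.mem_sup_right mσ')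
  · refine ⟨_, c01, ?_⟩
    rw [act_add, fc, fd, key]
    exact D.cl_mul c10 (Subgroup.mem_sup_right mσ')
  · refine ⟨_, c10, ?_⟩
    rw [act_add, fb, fd, show σ * (σ' * D.φ c β (rm 1)) = D.φ d c (rm 1) * σ * σ' by
      have h := congrArg (fun t => σ * t * σ') key
      simp only [mul_assoc, hσ'', mul_one, ← mul_assoc σ σ, hσσ, one_mul] at h
      rw [mul_assoc]
      exact h.symm]
    exact D.cl_mul c01 (Subgroup.mem_sup_right mσ')
  · have a11 : D.Cl T β c (ee β + ee c + ee d) (D.φ d c (rm 1) * D.φ c β (rm 1)) := by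
      refine D.cl_of_adm (Or.inr (Or.inr ⟨1, _, mx, ?_, ?_, ?_, by rw [map_one, one_mul]⟩))
      · simp [ee_inl, ee_inl' hbc, ee_inl' hbd]
      · simp [ee_inr]
      · rw [rest_add, rest_add, rest_ee_self, rest_ee hbc.symm, rest_ee hbd.symm, zero_add, ex]
    refine ⟨_, a11, ?_⟩
    rw [act_add, act_add, fb, fc, fd, add_comm (ee c) (ee β)]
    set y := D.φ d c (rm (1 : F)) with hy
    set x := D.φ c β (rm (1 : F)) with hx
    have hc20 : y * x * y⁻¹ * x⁻¹ = D.φ d β (rm 1) := D.a20 d c β hdc hbd.symm hbc.symm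
    have hfix : x⁻¹ * σ * x ∈ D.PS T β := by
      rw [hx, hσ, D.φ_swap β c hbc, ← map_inv, ← map_mul, ← map_mul]
      refine D.φ_stab_mem hc hbc ?_
      have h1 : (τ (rm (1 : F))).1 *ᵥ ev = Sum.elim ![1, 1] ![0, 0] := by
        simp [ev, τ_apply, rm_apply]
      rw [mul_apply_elim, mul_apply_elim, h1, sw_apply]
      conv_lhs => rw [← h1, ← mul_apply_elim, inv_mul_cancel, Submonoid.coe_one, one_mulVec]
    have hσy : σ * y = D.φ d β (rm 1) * σ := by
      rw [← e2]; simp only [mul_assoc, hσσ, mul_one]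
    rw [show σ * (y * x) = y * x * (y⁻¹ * (x⁻¹ * σ * x)) by
      rw [← mul_assoc σ y x, hσy, ← hc20]; group]
    exact D.cl_mul a11 (mul_mem (Subgroup.mem_sup_right (inv_mem mx)) hfix)

theorem cl_sw {T : Finset (Fin n)} {β c : Fin n} (hβ : β ∉ T) (hc : c ∈ T)
    (hT : ∀ g ∈ D.GS T, D.act g (ee c) = ee c → g ∈ D.PS (T.erase c) c)
    {v : Fin n ⊕ Fin n → F} (hv : Supp (insert β T) v) (hv0 : v ≠ 0) {b : G}
    (hb : D.Cl T β c v b) : D.Cl T β c (D.act (D.φ β c sw) v) (D.φ β c sw * b) := by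
  have hbc : β ≠ c := fun e => hβ (e ▸ hc)
  suffices ∃ a, D.Cl T β c v a ∧ D.Cl T β c (D.act (D.φ β c sw) v) (D.φ β c sw * a) by
    obtain ⟨a, ha, ha'⟩ := this
    rw [show D.φ β c sw * b = D.φ β c sw * a * (a⁻¹ * b) by group]
    exact D.cl_mul ha' (D.cl_unique hβ hc hT ha hb)
  set r := rest c (rest β v) with hr
  by_cases hr0 : r = 0
  · have hs : Supp (insert β {c}) v := by
      intro x hx
      rw [Finset.mem_insert, Finset.mem_singleton, not_or] at hx
      have := congrFun hr0 x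
      simpa [hr, rest, hx.1, hx.2] using this
    have hc' : ({c} : Finset (Fin n)) ⊆ T := Finset.singleton_subset_iff.2 hc
    obtain ⟨a, haG, ha⟩ := D.adm_exists hc' (Finset.mem_singleton_self c) hβ hs hv0
    have hσ : D.φ β c sw ∈ D.GS (insert β ({c} : Finset (Fin n))) :=
      D.φ_mem (by simp) (by simp) hbc _
    obtain ⟨a', haG', ha'⟩ := D.adm_exists hc' (Finset.mem_singleton_self c) hβ
      (D.supp_act hσ hs) (D.act_ne_zero _ hv0)
    refine ⟨a, D.cl_of_adm ha, ?_⟩
    rw [show D.φ β c sw * a = a' * (a'⁻¹ * (D.φ β c sw * a)) by group]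
    refine D.cl_mul (D.cl_of_adm ha') ?_
    obtain ⟨m, hm⟩ := D.φ_range_eq hbc (mul_mem (inv_mem haG') (mul_mem hσ haG))
    rw [← hm]
    refine D.φ_stab_mem hc hbc (D.φ_fix_ev hbc ?_)
    rw [hm, act_mul, act_mul, D.adm_act hβ hc ha]
    exact D.act_inv (D.adm_act hβ hc ha')
  · obtain ⟨d, hd⟩ : (T.erase c).Nonempty := by
      by_contra h
      rw [Finset.not_nonempty_iff_eq_empty] at h
      refine hr0 (funext fun x => ?_)
      by_cases hxc : idx x = c
      · simp [hr, rest, hxc]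
      by_cases hxb : idx x = β
      · simp [hr, rest, hxb]
      have hxT : idx x ∉ T := fun e => by
        have : idx x ∈ T.erase c := Finset.mem_erase.2 ⟨hxc, e⟩
        simp [h] at this
      simp only [hr, rest, hxc, hxb, if_false, Pi.zero_apply]
      exact hv x (by simp [hxb, hxT])
    obtain ⟨hdc, hdT⟩ := Finset.mem_erase.1 hd
    have hbd : β ≠ d := fun e => hβ (e ▸ hdT)
    have hrs : Supp (T.erase c) r := by
      refine supp_rest ?_
      have h := supp_rest (β := β) hv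
      rwa [Finset.erase_insert hβ] at h
    obtain ⟨h2, hh2, he2⟩ := D.transitive _ d hd r hrs hr0
    have hcol : ∀ i : Fin n, ∃ (p : Bool) (A : SL2), D.act (D.L i A) (bif p then ee i else 0) =
        Pi.single (Sum.inl i) (v (.inl i)) + Pi.single (Sum.inr i) (v (.inr i)) := by
      intro i
      by_cases h : v (.inl i) = 0 ∧ v (.inr i) = 0
      · exact ⟨false, 1, by simp [map_one, act_one, h.1, h.2]⟩
      · obtain ⟨A, h1, h2⟩ := exists_col (v (.inl i)) (v (.inr i)) (by tauto)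
        exact ⟨true, A, by simp [L_act_ee, h1, h2]⟩
    obtain ⟨p, A, hA⟩ := hcol β
    obtain ⟨q, B, hB⟩ := hcol c
    set u : Fin n ⊕ Fin n → F := (bif p then ee β else 0) + (bif q then ee c else 0) + ee d with hu
    have hh2T : h2 ∈ D.GS T := D.GS_mono (Finset.erase_subset _ _) hh2
    have hvu : D.act (D.L β A) (D.act (D.L c B * h2) u) = v := by
      have f1 : ∀ (s : Bool) (i : Fin n) (U : Finset (Fin n)) (g : G), i ∉ U → g ∈ D.GS U →
          D.act g (bif s then ee i else 0) = bif s then ee i else 0 := by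
        intro s i U g hi hg
        cases s
        · exact mulVec_zero _
        · exact D.act_ee_fixed hi hg
      have g1 : D.act h2 (bif p then ee β else 0) = bif p then ee β else 0 :=
        f1 p β _ h2 (fun e => hβ (Finset.mem_of_mem_erase e)) hh2
      have g2 : D.act h2 (bif q then ee c else 0) = bif q then ee c else 0 :=
        f1 q c _ h2 (Finset.notMem_erase c T) hh2
      have g3 : D.act (D.L c B) (bif p then ee β else 0) = bif p then ee β else 0 :=
        f1 p β {c} _ (by simpa using hbc) (D.L_mem (Finset.mem_singleton_self c) B)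
      have g4 : D.act (D.L c B) r = r :=
        (D.GS_local (D.L_mem (Finset.mem_singleton_self c) B)).2 r fun x hx => by
          simp [hr, rest, Finset.mem_singleton.1 hx]
      have g5 : D.act (D.L β A) r = r :=
        (D.GS_local (D.L_mem (Finset.mem_singleton_self β) A)).2 r fun x hx => by
          simp [hr, rest, Finset.mem_singleton.1 hx]
      have g6 : D.act (D.L β A) (Pi.single (Sum.inl c) (v (.inl c)) + Pi.single (Sum.inr c) (v (.inr c))) =
          Pi.single (Sum.inl c) (v (.inl c)) + Pi.single (Sum.inr c) (v (.inr c)) :=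
        (D.GS_local (D.L_mem (Finset.mem_singleton_self β) A)).2 _ fun x hx => by
          rw [Finset.mem_singleton] at hx
          rcases x with x | x <;> simp [show x = β from hx, hbc]
      rw [hu, act_mul]
      simp only [act_add, g1, g2, he2, g3, hB, g4, g5, hA]
      rw [← act_add D, g6]
      funext x
      simp only [Pi.add_apply, hr, rest]
      by_cases hxb : idx x = β
      · rcases x with x | x <;> simp [show x = β from hxb, hbc, idx]
      by_cases hxc : idx x = c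
      · rcases x with x | x <;> simp [show x = c from hxc, hbc.symm, idx]
      rcases x with x | x <;> simp [show x ≠ β from hxb, show x ≠ c from hxc, idx]
    obtain ⟨a, ha, ha'⟩ := D.cl_sw_normal hβ hc hdT hdc p q
    refine ⟨D.L β A * (D.L c B * h2 * a), ?_, ?_⟩
    · rw [← hvu]
      exact D.cl_L hβ hc A (D.cl_GS hβ (mul_mem (D.L_mem hc B) hh2T) ha)
    · set σ := D.φ β c sw with hσ
      have q1 : σ * D.L β A = D.L c A * σ := by
        rw [hσ, ← D.φ_eA β c hbc, ← D.φ_embB hbc, ← map_mul, ← map_mul, ← τ_eA, ← sw_conj,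
          inv_mul_cancel_right]
      have q2 : σ * D.L c B = D.L β B * σ := by
        rw [hσ, ← D.φ_eA β c hbc, ← D.φ_embB hbc, ← map_mul, ← map_mul, ← τ_eA, ← sw_conj, sw_inv]
        congr 1
        simp only [← mul_assoc, sw_mul_sw, one_mul]
      have q3 : σ * h2 = h2 * σ :=
        (D.comm_GS hbc (fun e => hβ (Finset.mem_of_mem_erase e)) (Finset.notMem_erase c T) hh2 sw).eq
      have hk : σ * (D.L β A * (D.L c B * h2 * a)) = D.L c A * (D.L β B * (h2 * (σ * a))) := by
        rw [← mul_assoc σ, q1, mul_assoc (D.L c A) σ, mul_assoc (D.L c B) h2 a,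
          ← mul_assoc σ (D.L c B), q2, mul_assoc (D.L β B) σ, ← mul_assoc σ h2, q3, mul_assoc h2 σ]
      have := D.cl_GS hβ (D.L_mem hc A) (D.cl_L hβ hc B (D.cl_GS hβ hh2T ha'))
      rw [← act_mul, ← act_mul, ← act_mul, ← hk] at this
      rw [← hvu, ← act_mul, ← act_mul]
      convert this using 2
      have hgrp : σ * (D.L β A * (D.L c B * h2)) = D.L c A * D.L β B * h2 * σ := by
        rw [← mul_assoc σ, q1, mul_assoc (D.L c A) σ, ← mul_assoc σ (D.L c B), q2,
          mul_assoc (D.L β B) σ, q3]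
        simp only [mul_assoc]
      simp only [mul_assoc] at hgrp ⊢
      rw [hgrp]

theorem stab_step {S : Finset (Fin n)} {β c : Fin n} (hβ : β ∈ S) (hc : c ∈ S.erase β)
    (hd : ∃ d ∈ S.erase β, d ≠ c)
    (hT : ∀ g ∈ D.GS (S.erase β), D.act g (ee c) = ee c → g ∈ D.PS ((S.erase β).erase c) c)
    {g : G} (hg : g ∈ D.GS S) (hge : D.act g (ee β) = ee β) : g ∈ D.PS (S.erase β) β := by
  set T := S.erase β with hTdef
  have hβT : β ∉ T := Finset.notMem_erase β S
  have hbc : β ≠ c := fun e => hβT (e ▸ hc)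
  have hST : insert β T = S := Finset.insert_erase hβ
  let K : Subgroup G :=
    { carrier := {g | g ∈ D.GS S ∧ ∀ v b, Supp S v → v ≠ 0 → D.Cl T β c v b →
        D.Cl T β c (D.act g v) (g * b)}
      one_mem' := ⟨one_mem _, fun v b _ _ h => by rwa [act_one, one_mul]⟩
      mul_mem' := fun {g h} hg hh => ⟨mul_mem hg.1 hh.1, fun v b hv hv0 hb => by
        rw [act_mul, mul_assoc]
        exact hg.2 _ _ (D.supp_act hh.1 hv) (D.act_ne_zero h hv0) (hh.2 v b hv hv0 hb)⟩
      inv_mem' := fun {g} hg => ⟨inv_mem hg.1, fun v b hv hv0 hb => by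
        have hv' := D.supp_act (inv_mem hg.1) hv
        obtain ⟨a, -, ha⟩ := D.adm_exists (subset_refl T) hc hβT (hST.symm ▸ hv')
          (D.act_ne_zero g⁻¹ hv0)
        have h := hg.2 _ _ hv' (D.act_ne_zero g⁻¹ hv0) (D.cl_of_adm ha)
        rw [← act_mul, mul_inv_cancel, act_one] at h
        rw [show g⁻¹ * b = a * ((g * a)⁻¹ * b) by group]
        exact D.cl_mul (D.cl_of_adm ha) (D.cl_unique hβT hc hT h hb)⟩ }
  have hle : D.GS S ≤ K := by
    refine D.GS_insert_le hc (fun i hi => ?_) hd hβT (fun t ht => ?_) ?_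
    · rw [hTdef, Finset.mem_erase]
      tauto
    · exact ⟨D.GS_mono (Finset.erase_subset _ _) ht, fun v b _ _ hb => D.cl_GS hβT ht hb⟩
    · exact ⟨D.φ_mem hβ (Finset.mem_of_mem_erase hc) hbc _,
        fun v b hv hv0 hb => D.cl_sw hβT hc hT (hST.symm ▸ hv) hv0 hb⟩
  have h1 : D.Cl T β c (ee β) 1 :=
    D.cl_of_adm (Or.inl ⟨1, rest_ee_self β, by simp [ee], by simp [ee], (map_one _).symm⟩)
  have h := (hle hg).2 _ _ (supp_ee hβ) (ee_ne_zero β) h1
  rw [hge, mul_one] at h
  have := D.cl_unique hβT hc hT h1 h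
  simpa using this

theorem good : ∀ S : Finset (Fin n), D.Good S := by
  intro S
  induction S using Finset.strongInduction with
  | H S ih =>
    have hst : ∀ β ∈ S, ∀ g ∈ D.GS S, D.act g (ee β) = ee β → g ∈ D.PS (S.erase β) β := by
      intro β hβ g hg hge
      rcases (S.erase β).eq_empty_or_nonempty with hT | ⟨c, hc⟩
      · have hS : S = {β} := by rw [← Finset.insert_erase hβ, hT]; rfl
        rw [hS] at hg
        obtain ⟨M, rfl⟩ := D.L_range hg
        have h0 := congrFun hge (Sum.inl β)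
        have h1 := congrFun hge (Sum.inr β)
        rw [L_act_ee] at h0 h1
        simp [ee] at h0 h1
        obtain ⟨z, rfl⟩ := same_col (M := 1) (M' := M) (by simp [h0]) (by simp [h1])
        rw [one_mul]
        exact Subgroup.mem_sup_left (D.uu_mem z)
      · by_cases hd : ∃ d ∈ S.erase β, d ≠ c
        · exact D.stab_step hβ hc hd (fun g hg => (ih _ (Finset.erase_ssubset hβ)).2 c hc g hg)
            hg hge
        · push Not at hd
          obtain ⟨hcb, hcS⟩ := Finset.mem_erase.1 hc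
          have hS : S = {β, c} := by
            rw [← Finset.insert_erase hβ]
            congr 1
            exact Finset.eq_singleton_iff_unique_mem.2 ⟨hc, hd⟩
          rw [hS] at hg
          obtain ⟨m, rfl⟩ := D.φ_range_eq hcb.symm hg
          exact D.φ_stab_mem hc hcb.symm (D.φ_fix_ev hcb.symm hge)
    refine ⟨fun g hg htriv => ?_, hst⟩
    rcases S.eq_empty_or_nonempty with rfl | ⟨β, hβ⟩
    · have hle : D.GS (∅ : Finset (Fin n)) ≤ ⊥ := D.GS_le (by simp) (by simp)
      exact Subgroup.mem_bot.1 (hle hg)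
    · have hβT : β ∉ S.erase β := Finset.notMem_erase β S
      obtain ⟨q, hq, h, hh, rfl⟩ := D.PS_exists hβT (hst β hβ g hg (htriv _))
      have hf : D.act h (Pi.single (Sum.inr β) 1) = Pi.single (Sum.inr β) (1 : F) :=
        (D.GS_local hh).2 _ fun x hx => Pi.single_eq_of_ne (fun e => hβT (by rw [e] at hx; exact hx)) 1
      have hq1 : q = 1 := D.QS_coord _ β hβT q hq (by
        have := htriv (Pi.single (Sum.inr β) (1 : F))
        rwa [act_mul, hf] at this)
      subst hq1
      rw [one_mul] at htriv ⊢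
      exact (ih _ (Finset.erase_ssubset hβ)).1 h hh htriv

theorem tmat_ee_mem (i : Fin n) (t : F) : tmat (ee i) t ∈ D.π.range := by
  obtain ⟨j, hij⟩ := D.exists_ne i
  refine ⟨D.φ i j (tmat ev t), ?_⟩
  rw [D.π_φ i j hij]
  refine ext_vec fun v => ?_
  have hform : sympForm n F v (ee i) = sympForm 2 F (fun b => v (cm (pr i j hij) b)) ev := by
    rw [sympForm_split (pr i j hij), Finset.sum_eq_zero (fun k hk => ?_), add_zero]
    · congr 1
      funext b
      rcases b with b | b <;> fin_cases b <;> simp [ee, ev, hij.symm]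
    · have hki : k ≠ i := fun e => (Finset.mem_filter.1 hk).2 0 e.symm
      simp [ee, hki]
  have hT : ∀ (m : ℕ) (w x : Fin m ⊕ Fin m → F), (tmat w t).1 *ᵥ x = x + (t * sympForm m F x w) • w :=
    fun m w x => sympTransvection_mulVec w t x
  refine ext_cm (f := pr i j hij) (fun a => ?_) fun x hx => ?_
  · rw [emb_in, hT, hT, hform]
    rcases a with a | a <;> fin_cases a <;> simp [ee, ev, hij.symm]
  · rw [emb_out _ _ _ hx, hT]
    have : ee (F := F) i x = 0 := Pi.single_eq_of_ne (fun e => hx 0 (by rw [e]; rfl)) 1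
    simp [this]

theorem bijective (hgen : D.GS Finset.univ = ⊤) : Function.Bijective D.π := by
  refine ⟨(injective_iff_map_eq_one _).2 fun g hg => (D.good Finset.univ).1 g (hgen ▸ Subgroup.mem_top g)
    fun v => by rw [act, hg, Submonoid.coe_one, one_mulVec], ?_⟩
  rw [← MonoidHom.range_eq_top]
  refine le_of_tmat_mem fun v t => ?_
  rcases eq_or_ne v 0 with rfl | hv
  · rw [show tmat (0 : Fin n ⊕ Fin n → F) t = 1 by apply Subtype.ext; simp [tmat, sympTransvection]]
    exact one_mem _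
  · have h2 := D.two
    obtain ⟨g, -, hgv⟩ := D.transitive Finset.univ (⟨0, by omega⟩ : Fin n) (Finset.mem_univ _) v
      (fun x hx => absurd (Finset.mem_univ _) hx) hv
    rw [← hgv, act, ← conj_tmat]
    exact mul_mem (mul_mem ⟨g, rfl⟩ (D.tmat_ee_mem _ t)) (inv_mem ⟨g, rfl⟩)

/-- The isomorphism. -/
noncomputable def mulEquiv (hgen : D.GS Finset.univ = ⊤) : G ≃* Matrix.symplecticGroup (Fin n) F :=
  MulEquiv.ofBijective D.π (D.bijective hgen)

end CData

end CfsgLib.SpPresent
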