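import Cfsg.Agent.Lib.SpPresent.Sp4

/-!
Permutation elements of symplectic groups and the identities behind the amalgam relations.
-/

set_option autoImplicit false
set_option linter.unusedSectionVars false
set_option linter.unusedSimpArgs false
set_option linter.unnecessarySeqFocus false
set_option linter.unusedVariables false

namespace CfsgLib.SpPresent

open Matrix Cfsg CfsgLib.Sp SLTwoPresent CfsgLib.SpFourPresent

variable {F : Type*} [Field F] {n : ℕ}

local notation "Sp4" => Matrix.symplecticGroup (Fin 2) F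
local notation "SL2" => Matrix.SpecialLinearGroup (Fin 2) F

/-- Permutations of the hyperbolic pairs. -/
noncomputable def permSp : Equiv.Perm (Fin n) →* Matrix.symplecticGroup (Fin n) F where
  toFun σ := ⟨LinearMap.toMatrix' (LinearMap.funLeft F F (cm σ.symm)), by
    rw [mem_symplecticGroup_iff]
    intro u v
    simp only [LinearMap.toMatrix'_mulVec]
    rw [sympForm_eq_sum, sympForm_eq_sum]
    exact Equiv.sum_comp σ.symm (fun i => u (.inr i) * v (.inl i) - u (.inl i) * v (.inr i))⟩
  map_one' := by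
    refine ext_vec fun v => ?_
    simp only [LinearMap.toMatrix'_mulVec, Submonoid.coe_one, one_mulVec]
    funext x
    rcases x with x | x <;> rfl
  map_mul' σ τ := by
    refine ext_vec fun v => ?_
    simp only [Submonoid.coe_mul, ← mulVec_mulVec, LinearMap.toMatrix'_mulVec]
    funext x
    rcases x with x | x <;> rfl

theorem permSp_apply (σ : Equiv.Perm (Fin n)) (v : Fin n ⊕ Fin n → F) (x : Fin n ⊕ Fin n) :
    ((permSp σ).1 *ᵥ v) x = v (cm σ.symm x) := by
  show (LinearMap.toMatrix' (LinearMap.funLeft F F (cm σ.symm)) *ᵥ v) x = _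
  rw [LinearMap.toMatrix'_mulVec]
  rfl

theorem permSp_conj {m : ℕ} (σ : Equiv.Perm (Fin n)) (f : Fin m ↪ Fin n)
    (M : Matrix.symplecticGroup (Fin m) F) :
    permSp σ * emb f M * (permSp σ)⁻¹ = emb (f.trans σ.toEmbedding) M := by
  rw [← map_inv]
  refine ext_vec fun v => ?_
  simp only [Submonoid.coe_mul, ← mulVec_mulVec]
  refine ext_cm (f := f.trans σ.toEmbedding) (fun a => ?_) fun x hx => ?_
  · rw [permSp_apply, emb_in (f.trans σ.toEmbedding),
      show cm σ.symm (cm (f.trans σ.toEmbedding) a) = cm f a by rcases a with a | a <;> simp [cm],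
      emb_in]
    congr 2
    funext b
    rw [permSp_apply]
    congr 1
    rcases b with b | b <;> simp [cm, Equiv.Perm.inv_def]
  · rw [permSp_apply, emb_out (f.trans σ.toEmbedding) M v hx, emb_out f M, permSp_apply]
    · congr 1
      rcases x with x | x <;> simp [cm, Equiv.Perm.inv_def]
    · intro i e
      refine hx i ?_
      rcases x with x | x <;> simp [idx, cm] at e ⊢ <;> simp [e]

theorem emb_pr_perm (σ : Equiv.Perm (Fin n)) (i j : Fin n) (h : i ≠ j) (M : Sp4) :
    permSp σ * emb (pr i j h) M * (permSp σ)⁻¹ = emb (pr (σ i) (σ j) (σ.injective.ne h)) M := by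
  rw [permSp_conj]
  congr 1
  congr 1
  ext a
  fin_cases a <;> rfl

theorem emb_pr_apply (i j : Fin n) (h : i ≠ j) (M : Sp4) (v : Fin n ⊕ Fin n → F)
    (a : Fin 2 ⊕ Fin 2) : ((emb (pr i j h) M).1 *ᵥ v) (cm (pr i j h) a) =
      (M.1 *ᵥ Sum.elim ![v (.inl i), v (.inl j)] ![v (.inr i), v (.inr j)]) a := by
  rw [emb_in]
  congr 2
  funext b
  rcases b with b | b <;> fin_cases b <;> rfl

theorem emb_sw (i j : Fin n) (h : i ≠ j) :
    emb (pr i j h) (sw : Sp4) = permSp (Equiv.swap i j) := by
  refine ext_vec fun v => ext_cm (f := pr i j h) (fun a => ?_) fun x hx => ?_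
  · rw [emb_pr_apply, sw_apply, permSp_apply]
    rcases a with a | a <;> fin_cases a <;> simp [cm]
  · rw [emb_out _ _ _ hx, permSp_apply]
    congr 1
    have h0 : idx x ≠ i := fun e => hx 0 e.symm
    have h1 : idx x ≠ j := fun e => hx 1 e.symm
    rcases x with x | x <;> simp [idx, cm] at h0 h1 ⊢ <;>
      simp [Equiv.swap_apply_of_ne_of_ne h0 h1]

theorem eA_fix (i j : Fin n) (h : i ≠ j) (M : SL2) (v : Fin n ⊕ Fin n → F) {x : Fin n ⊕ Fin n}
    (hx : idx x ≠ i) : ((emb (pr i j h) (eA M)).1 *ᵥ v) x = v x := by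
  by_cases hj : idx x = j
  · rcases x with x | x <;> change x = j at hj <;> subst hj
    · have := emb_pr_apply i x h (eA M) v (.inl 1)
      rw [eA_apply] at this
      simpa using this
    · have := emb_pr_apply i x h (eA M) v (.inr 1)
      rw [eA_apply] at this
      simpa using this
  · exact emb_out _ _ _ fun k => by fin_cases k; exacts [Ne.symm hx, Ne.symm hj]

theorem eA_at (i j : Fin n) (h : i ≠ j) (M : SL2) (v : Fin n ⊕ Fin n → F) :
    ((emb (pr i j h) (eA M)).1 *ᵥ v) (.inl i) = M.1 0 0 * v (.inl i) + M.1 0 1 * v (.inr i) ∧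
    ((emb (pr i j h) (eA M)).1 *ᵥ v) (.inr i) = M.1 1 0 * v (.inl i) + M.1 1 1 * v (.inr i) := by
  constructor
  · have := emb_pr_apply i j h (eA M) v (.inl 0)
    rw [eA_apply] at this
    simpa using this
  · have := emb_pr_apply i j h (eA M) v (.inr 0)
    rw [eA_apply] at this
    simpa using this

theorem eA_indep {i j k : Fin n} (hj : i ≠ j) (hk : i ≠ k) (M : SL2) :
    emb (pr i j hj) (eA M) = emb (pr i k hk) (eA M) := by
  refine ext_vec fun v => funext fun x => ?_
  by_cases hx : idx x = i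
  · rcases x with x | x <;> change x = i at hx <;> subst hx
    · rw [(eA_at x j hj M v).1, (eA_at x k hk M v).1]
    · rw [(eA_at x j hj M v).2, (eA_at x k hk M v).2]
  · rw [eA_fix i j hj M v hx, eA_fix i k hk M v hx]

theorem eA_commute {i a b : Fin n} (ha : i ≠ a) (hb : i ≠ b) (hab : a ≠ b) (M : SL2) (N : Sp4) :
    Commute (emb (pr i a ha) (eA M)) (emb (pr a b hab) N) := by
  refine ext_vec fun v => funext fun x => ?_
  simp only [Submonoid.coe_mul, ← mulVec_mulVec]
  have hN : ∀ (w : Fin n ⊕ Fin n → F) {y : Fin n ⊕ Fin n}, idx y = i →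
      ((emb (pr a b hab) N).1 *ᵥ w) y = w y := fun w y hy =>
    emb_out _ _ _ fun k => by fin_cases k <;> rw [hy] <;> [exact ha.symm; exact hb.symm]
  by_cases hx : idx x = i
  · rw [hN _ hx]
    rcases x with x | x <;> change x = i at hx <;> subst hx
    · rw [(eA_at x a ha M _).1, (eA_at x a ha M _).1, hN _ rfl, hN _ rfl]
    · rw [(eA_at x a ha M _).2, (eA_at x a ha M _).2, hN _ rfl, hN _ rfl]
  · rw [eA_fix i a ha M _ hx]
    by_cases hxf : ∃ k, pr a b hab k = idx x
    · obtain ⟨c, rfl⟩ := (exists_cm_iff x).2 hxf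
      rw [emb_in, emb_in]
      congr 2
      funext d
      rw [eA_fix i a ha M v]
      rcases d with d | d <;> fin_cases d <;> first | exact ha.symm | exact hb.symm
    · push Not at hxf
      rw [emb_out _ _ _ hxf, emb_out _ _ _ hxf, eA_fix i a ha M v hx]

/-- The action of a short root element. -/
theorem emb_rm (i j : Fin n) (h : i ≠ j) (t : F) (v : Fin n ⊕ Fin n → F) :
    (emb (pr i j h) (rm t)).1 *ᵥ v = v + (Pi.single (Sum.inl i) (t * v (.inl j)) -
      Pi.single (Sum.inr j) (t * v (.inr i))) := by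
  refine ext_cm (f := pr i j h) (fun a => ?_) fun x hx => ?_
  · rw [emb_pr_apply, rm_apply]
    rcases a with a | a <;> fin_cases a <;> simp [h, h.symm] <;> ring
  · rw [emb_out _ _ _ hx]
    have h0 : idx x ≠ i := fun e => hx 0 e.symm
    have h1 : idx x ≠ j := fun e => hx 1 e.symm
    rcases x with x | x <;> simp [idx] at h0 h1 <;> simp [h0, h1]

theorem rm_commute {i j l : Fin n} (hij : i ≠ j) (hil : i ≠ l) (hjl : j ≠ l) (s t : F) :
    Commute (emb (pr i j hij) (rm s)) (emb (pr i l hil) (rm t)) := by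
  refine ext_vec fun v => ?_
  simp only [Submonoid.coe_mul, ← mulVec_mulVec, emb_rm]
  simp [hij, hil, hjl, hij.symm, hil.symm, hjl.symm]
  abel

theorem rm_a20 {a b c : Fin n} (hab : a ≠ b) (hac : a ≠ c) (hbc : b ≠ c) :
    emb (pr a b hab) (rm (1 : F)) * emb (pr b c hbc) (rm 1) * (emb (pr a b hab) (rm 1))⁻¹ *
      (emb (pr b c hbc) (rm 1))⁻¹ = emb (pr a c hac) (rm 1) := by
  rw [mul_inv_eq_iff_eq_mul, mul_inv_eq_iff_eq_mul]
  refine ext_vec fun v => ?_
  simp only [Submonoid.coe_mul, ← mulVec_mulVec, emb_rm]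
  simp [hab, hac, hbc, hab.symm, hac.symm, hbc.symm]
  simp only [sub_eq_add_neg, Pi.single_add, Pi.single_neg]
  abel

end CfsgLib.SpPresent
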