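import Cfsg.Agent.Lib.SpPresent.Cover
import Cfsg.Agent.Lib.SpPresent.PermElem

/-!
A copy of `Sp_4` amalgamated with the symmetric group.
-/

set_option autoImplicit false
set_option linter.unusedSectionVars false

namespace CfsgLib.SpPresent

open Matrix Cfsg CfsgLib.Sp SLTwoPresent CfsgLib.SpFourPresent Equiv

variable {F : Type*} [Field F] {n : ℕ}

local notation "Sp4" => Matrix.symplecticGroup (Fin 2) F
local notation "SL2" => Matrix.SpecialLinearGroup (Fin 2) F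

theorem exists_perm_map {k : ℕ} (f g : Fin k ↪ Fin n) : ∃ σ : Perm (Fin n), ∀ i, σ (f i) = g i := by
  classical
  let e : {x // x ∈ Set.range f} ≃ {x // x ∈ Set.range g} :=
    (Equiv.ofInjective f f.injective).symm.trans (Equiv.ofInjective g g.injective)
  refine ⟨e.extendSubtype, fun i => ?_⟩
  rw [Equiv.extendSubtype_apply_of_mem e (f i) ⟨i, rfl⟩]
  simp [e, Equiv.ofInjective_symm_apply f.injective i]

/-- The injection of three indices. -/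
def pr3 (a b c : Fin n) (hab : a ≠ b) (hac : a ≠ c) (hbc : b ≠ c) : Fin 3 ↪ Fin n :=
  ⟨![a, b, c], fun x y => by
    fin_cases x <;> fin_cases y <;> simp [hab, hac, hbc, hab.symm, hac.symm, hbc.symm]⟩

/-- The injection of four indices. -/
def pr4 (a b c d : Fin n) (h : List.Nodup [a, b, c, d]) : Fin 4 ↪ Fin n :=
  ⟨![a, b, c, d], fun x y => by
    simp at h
    fin_cases x <;> fin_cases y <;> simp <;> tauto⟩

theorem exists_perm2 {a b a' b' : Fin n} (h : a ≠ b) (h' : a' ≠ b') :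
    ∃ σ : Perm (Fin n), σ a = a' ∧ σ b = b' := by
  obtain ⟨σ, hσ⟩ := exists_perm_map (pr a b h) (pr a' b' h')
  exact ⟨σ, hσ 0, hσ 1⟩

/-- The relations between a copy of `Sp_4` and the symmetric group. -/
structure Amalgam (n : ℕ) (F : Type*) [Field F] (G : Type*) [Group G] where
  hn : 3 ≤ n
  π : G →* Matrix.symplecticGroup (Fin n) F
  α : Matrix.symplecticGroup (Fin 2) F →* G
  ψ : Equiv.Perm (Fin n) →* G
  i0 : Fin n
  i1 : Fin n
  i2 : Fin n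
  h01 : i0 ≠ i1
  h02 : i0 ≠ i2
  h12 : i1 ≠ i2
  π_α : ∀ m, π (α m) = emb (pr i0 i1 h01) m
  π_ψ : ∀ σ, π (ψ σ) = permSp σ
  ha : α sw = ψ (swap i0 i1)
  hb : ∀ σ : Equiv.Perm (Fin n), σ i0 = i0 → ∀ M, Commute (ψ σ) (α (eA M))
  hc : ∀ σ : Equiv.Perm (Fin n), σ i0 = i0 → σ i1 = i1 → Commute (ψ σ) (α (rm 1))
  hd : ∃ σ : Equiv.Perm (Fin n), σ i0 = i1 ∧ σ i1 = i2 ∧
    (∀ M, Commute (α (eA M)) (ψ σ * α (rm 1) * (ψ σ)⁻¹)) ∧
    ∃ τ : Equiv.Perm (Fin n), τ i0 = i0 ∧ τ i1 = i2 ∧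
      Commute (α (rm 1)) (ψ τ * α (rm 1) * (ψ τ)⁻¹) ∧
      α (rm 1) * (ψ σ * α (rm 1) * (ψ σ)⁻¹) * (α (rm 1))⁻¹ * (ψ σ * α (rm 1) * (ψ σ)⁻¹)⁻¹ =
        ψ τ * α (rm 1) * (ψ τ)⁻¹
  he : 4 ≤ n → ∃ σ : Equiv.Perm (Fin n), σ i0 ≠ i0 ∧ σ i0 ≠ i1 ∧ σ i1 ≠ i0 ∧ σ i1 ≠ i1 ∧
    Commute (α (rm 1)) (ψ σ * α (rm 1) * (ψ σ)⁻¹)

namespace Amalgam

variable {G : Type*} [Group G] (A : Amalgam n F G)

theorem swap_α (m : Sp4) : A.ψ (swap A.i0 A.i1) * A.α m * (A.ψ (swap A.i0 A.i1))⁻¹ = A.α (τ m) := by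
  rw [← A.ha, ← map_inv, ← map_mul, ← map_mul, sw_conj]

theorem fix_α (σ : Perm (Fin n)) (h0 : σ A.i0 = A.i0) (h1 : σ A.i1 = A.i1) (m : Sp4) :
    Commute (A.ψ σ) (A.α m) := by
  let K : Subgroup Sp4 := (Subgroup.centralizer {A.ψ σ}).comap A.α
  have mk : ∀ m, Commute (A.ψ σ) (A.α m) → m ∈ K := fun m h =>
    Subgroup.mem_comap.2 (Subgroup.mem_centralizer_singleton_iff.2 h.eq.symm)
  have hs : Commute (A.ψ σ) (A.ψ (swap A.i0 A.i1)) := by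
    refine Commute.map ?_ _
    show σ * swap A.i0 A.i1 = swap A.i0 A.i1 * σ
    rw [Equiv.mul_swap_eq_swap_mul, h0, h1]
  have htop : K = ⊤ := by
    refine sp_four_top (fun M => mk _ (A.hb σ h0 M)) (fun M => mk _ ?_) (mk _ (A.hc σ h0 h1))
      (mk _ (by rw [A.ha]; exact hs))
    rw [← τ_eA, ← A.swap_α]
    exact (hs.mul_right (A.hb σ h0 M)).mul_right hs.inv_right
  have h : m ∈ K := htop ▸ Subgroup.mem_top m
  exact (Subgroup.mem_centralizer_singleton_iff.1 (Subgroup.mem_comap.1 h)).symm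

/-- The copy on a pair of indices. -/
noncomputable def φ (i j : Fin n) : Sp4 →* G :=
  if h : i ≠ j then (MulAut.conj (A.ψ (exists_perm2 A.h01 h).choose)).toMonoidHom.comp A.α else 1

theorem conj_eq {σ σ' : Perm (Fin n)} {g : G}
    (h : Commute (A.ψ (σ'⁻¹ * σ)) g) : A.ψ σ * g * (A.ψ σ)⁻¹ = A.ψ σ' * g * (A.ψ σ')⁻¹ := by
  rw [map_mul, map_inv] at h
  calc A.ψ σ * g * (A.ψ σ)⁻¹ = A.ψ σ' * ((A.ψ σ')⁻¹ * A.ψ σ * g) * (A.ψ σ)⁻¹ := by group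
    _ = A.ψ σ' * (g * ((A.ψ σ')⁻¹ * A.ψ σ)) * (A.ψ σ)⁻¹ := by rw [h.eq]
    _ = _ := by group

theorem φ_eq (σ : Perm (Fin n)) (m : Sp4) :
    A.φ (σ A.i0) (σ A.i1) m = A.ψ σ * A.α m * (A.ψ σ)⁻¹ := by
  have h : σ A.i0 ≠ σ A.i1 := σ.injective.ne A.h01
  rw [φ, dif_pos h]
  obtain ⟨h0, h1⟩ := (exists_perm2 A.h01 h).choose_spec
  show A.ψ _ * A.α m * (A.ψ _)⁻¹ = _
  refine A.conj_eq (A.fix_α _ ?_ ?_ m)
  · rw [Perm.mul_apply, Perm.inv_eq_iff_eq]; exact h0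
  · rw [Perm.mul_apply, Perm.inv_eq_iff_eq]; exact h1

theorem φ_base (m : Sp4) : A.φ A.i0 A.i1 m = A.α m := by
  simpa using A.φ_eq 1 m

theorem φ_equiv (ρ : Perm (Fin n)) {i j : Fin n} (h : i ≠ j) (m : Sp4) :
    A.ψ ρ * A.φ i j m * (A.ψ ρ)⁻¹ = A.φ (ρ i) (ρ j) m := by
  obtain ⟨σ, rfl, rfl⟩ := exists_perm2 A.h01 h
  rw [← Perm.mul_apply, ← Perm.mul_apply, A.φ_eq, A.φ_eq, map_mul]
  group

theorem φ_swap' {i j : Fin n} (h : i ≠ j) (m : Sp4) : A.φ j i m = A.φ i j (τ m) := by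
  obtain ⟨σ, rfl, rfl⟩ := exists_perm2 A.h01 h
  rw [A.φ_eq, ← A.swap_α]
  have := A.φ_eq (σ * swap A.i0 A.i1) m
  simp only [Perm.mul_apply, swap_apply_left, swap_apply_right] at this
  rw [this, map_mul]
  group

/-- The copy of `SL_2` on an index. -/
noncomputable def L (i : Fin n) : SL2 →* G :=
  (MulAut.conj (A.ψ (swap A.i0 i))).toMonoidHom.comp (A.α.comp eA)

theorem L_eq (σ : Perm (Fin n)) (M : SL2) :
    A.L (σ A.i0) M = A.ψ σ * A.α (eA M) * (A.ψ σ)⁻¹ := by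
  show A.ψ _ * A.α (eA M) * (A.ψ _)⁻¹ = _
  refine A.conj_eq (A.hb _ ?_ M)
  rw [Perm.mul_apply, Perm.inv_eq_iff_eq, swap_apply_left]

theorem L_equiv (ρ : Perm (Fin n)) (i : Fin n) (M : SL2) :
    A.ψ ρ * A.L i M * (A.ψ ρ)⁻¹ = A.L (ρ i) M := by
  have h := A.L_eq (swap A.i0 i) M
  rw [swap_apply_left] at h
  have h' := A.L_eq (ρ * swap A.i0 i) M
  rw [Perm.mul_apply, swap_apply_left] at h'
  rw [h, h', map_mul]
  group

theorem φ_eA' {i j : Fin n} (h : i ≠ j) (M : SL2) : A.φ i j (eA M) = A.L i M := by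
  obtain ⟨σ, rfl, rfl⟩ := exists_perm2 A.h01 h
  rw [A.φ_eq, A.L_eq]

theorem φ_embB' {i j : Fin n} (h : i ≠ j) (M : SL2) : A.φ i j (embB M) = A.L j M := by
  rw [← τ_eA, ← A.φ_swap' h, A.φ_eA' h.symm]

theorem φ_sw {i j : Fin n} (h : i ≠ j) : A.φ i j sw = A.ψ (swap i j) := by
  obtain ⟨σ, rfl, rfl⟩ := exists_perm2 A.h01 h
  rw [A.φ_eq, A.ha, Equiv.swap_apply_apply, map_mul, map_mul, map_inv]

theorem commute_equiv {x y : G} (h : Commute x y) (ρ : Perm (Fin n)) :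
    Commute (A.ψ ρ * x * (A.ψ ρ)⁻¹) (A.ψ ρ * y * (A.ψ ρ)⁻¹) :=
  h.map (MulAut.conj (A.ψ ρ)).toMonoidHom

theorem commute_of_gens {g : G} {a b : Fin n} (hab : a ≠ b) (hA : ∀ N, Commute g (A.L a N))
    (hB : ∀ N, Commute g (A.L b N)) (hr : Commute g (A.φ a b (rm 1)))
    (hs : Commute g (A.ψ (swap a b))) (m : Sp4) : Commute g (A.φ a b m) := by
  let K : Subgroup Sp4 := (Subgroup.centralizer {g}).comap (A.φ a b)
  have mk : ∀ m, Commute g (A.φ a b m) → m ∈ K := fun m h =>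
    Subgroup.mem_comap.2 (Subgroup.mem_centralizer_singleton_iff.2 h.eq.symm)
  have htop : K = ⊤ := sp_four_top (fun M => mk _ (by rw [A.φ_eA' hab]; exact hA M))
    (fun M => mk _ (by rw [A.φ_embB' hab]; exact hB M)) (mk _ hr)
    (mk _ (by rw [A.φ_sw hab]; exact hs))
  have h : m ∈ K := htop ▸ Subgroup.mem_top m
  exact (Subgroup.mem_centralizer_singleton_iff.1 (Subgroup.mem_comap.1 h)).symm

theorem L_commute {i a : Fin n} (h : i ≠ a) (M N : SL2) : Commute (A.L i M) (A.L a N) := by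
  rw [← A.φ_eA' h, ← A.φ_embB' h]
  exact (eA_embB _ _).map _

theorem L_rm {i a b : Fin n} (hab : a ≠ b) (ha : i ≠ a) (hb : i ≠ b) (M : SL2) :
    Commute (A.L i M) (A.φ a b (rm 1)) := by
  obtain ⟨σ, h0, h1, hcom, -⟩ := A.hd
  obtain ⟨ρ, hρ⟩ := exists_perm_map (pr3 A.i0 A.i1 A.i2 A.h01 A.h02 A.h12) (pr3 i a b ha hb hab)
  have h := A.commute_equiv (hcom M) ρ
  rw [← A.φ_eq σ, h0, h1, A.φ_equiv ρ A.h12, ← A.φ_eq ρ, A.φ_eA' (ρ.injective.ne A.h01)] at h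
  rwa [show ρ A.i0 = i from hρ 0, show ρ A.i1 = a from hρ 1, show ρ A.i2 = b from hρ 2] at h

theorem disjL' {i a b : Fin n} (hab : a ≠ b) (ha : i ≠ a) (hb : i ≠ b) (M : SL2) (m : Sp4) :
    Commute (A.L i M) (A.φ a b m) := by
  refine A.commute_of_gens hab (fun N => A.L_commute ha M N) (fun N => A.L_commute hb M N)
    (A.L_rm hab ha hb M) ?_ m
  have h := A.L_equiv (swap a b) i M
  rw [swap_apply_of_ne_of_ne ha hb, mul_inv_eq_iff_eq_mul] at h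
  exact h.symm

theorem rm_rm {i j a b : Fin n} (hij : i ≠ j) (hab : a ≠ b) (h1 : i ≠ a) (h2 : i ≠ b) (h3 : j ≠ a)
    (h4 : j ≠ b) : Commute (A.φ i j (rm 1)) (A.φ a b (rm 1)) := by
  have hn4 : 4 ≤ n := by
    have := Finset.card_le_univ ({i, j, a, b} : Finset (Fin n))
    rw [Fintype.card_fin, Finset.card_insert_of_notMem (by simp [hij, h1, h2]),
      Finset.card_insert_of_notMem (by simp [h3, h4]),
      Finset.card_insert_of_notMem (by simp [hab]), Finset.card_singleton] at this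
    exact this
  obtain ⟨σ, s1, s2, s3, s4, hcom⟩ := A.he hn4
  have hs : σ A.i0 ≠ σ A.i1 := σ.injective.ne A.h01
  obtain ⟨ρ, hρ⟩ := exists_perm_map
    (pr4 A.i0 A.i1 (σ A.i0) (σ A.i1) (by simp [A.h01, hs, Ne.symm s1, Ne.symm s2, Ne.symm s3, Ne.symm s4]))
    (pr4 i j a b (by simp [hij, hab, h1, h2, h3, h4]))
  have h := A.commute_equiv hcom ρ
  rw [← A.φ_eq σ, A.φ_equiv ρ hs, ← A.φ_eq ρ] at h
  rwa [show ρ A.i0 = i from hρ 0, show ρ A.i1 = j from hρ 1, show ρ (σ A.i0) = a from hρ 2,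
    show ρ (σ A.i1) = b from hρ 3] at h

theorem ψ_commute {i j a b : Fin n} (hab : a ≠ b) (h1 : i ≠ a) (h2 : i ≠ b) (h3 : j ≠ a)
    (h4 : j ≠ b) (m : Sp4) : Commute (A.ψ (swap i j)) (A.φ a b m) := by
  have h := A.φ_equiv (swap i j) hab m
  rw [swap_apply_of_ne_of_ne h1.symm h3.symm, swap_apply_of_ne_of_ne h2.symm h4.symm,
    mul_inv_eq_iff_eq_mul] at h
  exact h

theorem disj' {i j a b : Fin n} (hij : i ≠ j) (hab : a ≠ b) (h1 : i ≠ a) (h2 : i ≠ b) (h3 : j ≠ a)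
    (h4 : j ≠ b) (m m' : Sp4) : Commute (A.φ i j m) (A.φ a b m') := by
  have h5 : ∀ m', Commute (A.φ i j (rm 1)) (A.φ a b m') := fun m' =>
    A.commute_of_gens hab (fun N => (A.disjL' hij h1.symm h3.symm N _).symm)
      (fun N => (A.disjL' hij h2.symm h4.symm N _).symm) (A.rm_rm hij hab h1 h2 h3 h4)
      (A.ψ_commute hij h1.symm h3.symm h2.symm h4.symm _).symm m'
  exact (A.commute_of_gens hij (fun N => (A.disjL' hab h1 h2 N m').symm)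
    (fun N => (A.disjL' hab h3 h4 N m').symm) (h5 m').symm
    (A.ψ_commute hab h1 h2 h3 h4 m').symm m).symm

/-- The data of the cover theorem. -/
noncomputable def data : CData n F G where
  two := by have := A.hn; omega
  π := A.π
  φ := A.φ
  L := A.L
  π_φ i j h m := by
    obtain ⟨σ, rfl, rfl⟩ := exists_perm2 A.h01 h
    rw [A.φ_eq, map_mul, map_mul, map_inv, A.π_α, A.π_ψ, emb_pr_perm]
  φ_swap i j h m := A.φ_swap' h m
  φ_eA i j h M := A.φ_eA' h M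
  disj i j a b hij hab h1 h2 h3 h4 m m' := A.disj' hij hab h1 h2 h3 h4 m m'
  disjL i a b hab ha hb M m := A.disjL' hab ha hb M m
  swap_conj i j a b hij hab m := by rw [A.φ_sw hij, A.φ_equiv _ hab]
  comm0 i j l hij hil hjl := by
    obtain ⟨σ, -, -, -, τ', h0, h1, hcom, -⟩ := A.hd
    obtain ⟨ρ, hρ⟩ := exists_perm_map (pr3 A.i0 A.i1 A.i2 A.h01 A.h02 A.h12) (pr3 i j l hij hil hjl)
    have h := A.commute_equiv hcom ρ
    rw [← A.φ_eq τ', h0, h1, A.φ_equiv ρ A.h02, ← A.φ_eq ρ] at h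
    rwa [show ρ A.i0 = i from hρ 0, show ρ A.i1 = j from hρ 1, show ρ A.i2 = l from hρ 2] at h
  a20 a b c hab hac hbc := by
    obtain ⟨σ, s0, s1, -, τ', h0, h1, -, hrel⟩ := A.hd
    obtain ⟨ρ, hρ⟩ := exists_perm_map (pr3 A.i0 A.i1 A.i2 A.h01 A.h02 A.h12) (pr3 a b c hab hac hbc)
    rw [← A.φ_eq, ← A.φ_eq, s0, s1, h0, h1, ← A.φ_base] at hrel
    have h := congrArg (MulAut.conj (A.ψ ρ)) hrel
    simp only [map_mul, map_inv, MulAut.conj_apply, A.φ_equiv ρ A.h12, A.φ_equiv ρ A.h02,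
      A.φ_equiv ρ A.h01] at h
    rwa [show ρ A.i0 = a from hρ 0, show ρ A.i1 = b from hρ 1, show ρ A.i2 = c from hρ 2] at h

theorem gs_top (hgen : Subgroup.closure (Set.range A.α ∪ Set.range A.ψ) = ⊤) :
    A.data.GS Finset.univ = ⊤ := by
  have hψ : ∀ σ, A.ψ σ ∈ A.data.GS Finset.univ := by
    intro σ
    induction σ using Equiv.Perm.swap_induction_on with
    | one => rw [map_one]; exact one_mem _
    | swap_mul f x y hxy hf =>
      rw [map_mul, ← A.φ_sw hxy]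
      exact mul_mem (A.data.φ_mem (Finset.mem_univ x) (Finset.mem_univ y) hxy sw) hf
  rw [eq_top_iff, ← hgen, Subgroup.closure_le]
  rintro g (⟨m, rfl⟩ | ⟨σ, rfl⟩)
  · rw [← A.φ_base]
    exact A.data.φ_mem (Finset.mem_univ _) (Finset.mem_univ _) A.h01 m
  · exact hψ σ

end Amalgam

end CfsgLib.SpPresent
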