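import Cfsg.Agent.Lib.SpPresent.Amalgam
import Cfsg.Agent.Lib.SpFourPresent.Main
import Cfsg.Agent.Lib.SymPresent.Main

/-!
Short presentations of `Sp_{2n}(q)` and `PSp_{2n}(q)`.
-/

set_option autoImplicit false
set_option linter.unusedSectionVars false

namespace CfsgLib.SpPresent

open Matrix Cfsg CfsgLib.Sp SLTwoPresent CfsgLib.SpFourPresent CfsgLib.SymPresent Equiv
open scoped commutatorElement

variable {F : Type*} [Field F] {n : ℕ}

local notation "Sp4" => Matrix.symplecticGroup (Fin 2) F
local notation "SL2" => Matrix.SpecialLinearGroup (Fin 2) F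

/-- The relations gluing `Sp_4` and the symmetric group. -/
noncomputable def glueRels {H : Type*} [Group H] (a : Sp4 → H) (p : Perm (Fin n) → H)
    (g0 g01 d : List (Perm (Fin n))) (s : List (Matrix.SpecialLinearGroup (Fin 2) F))
    (t σ τ' : Perm (Fin n)) : List H :=
  [a sw * (p t)⁻¹] ++ g0.flatMap (fun g => s.map fun M => ⁅p g, a (eA M)⁆) ++
    g01.map (fun g => ⁅p g, a (rm 1)⁆) ++
    s.map (fun M => ⁅a (eA M), p σ * a (rm 1) * (p σ)⁻¹⁆) ++
    [⁅a (rm 1), p τ' * a (rm 1) * (p τ')⁻¹⁆,
      a (rm 1) * (p σ * a (rm 1) * (p σ)⁻¹) * (a (rm 1))⁻¹ * (p σ * a (rm 1) * (p σ)⁻¹)⁻¹ *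
        (p τ' * a (rm 1) * (p τ')⁻¹)⁻¹] ++
    d.map (fun ρ => ⁅a (rm 1), p ρ * a (rm 1) * (p ρ)⁻¹⁆)

theorem map_glueRels {H K : Type*} [Group H] [Group K] (f : H →* K) (a : Sp4 → H)
    (p : Perm (Fin n) → H) (g0 g01 d : List (Perm (Fin n))) (s : List SL2) (t σ τ' : Perm (Fin n)) :
    (glueRels a p g0 g01 d s t σ τ').map f =
      glueRels (fun m => f (a m)) (fun x => f (p x)) g0 g01 d s t σ τ' := by
  simp [glueRels, List.map_flatMap, Function.comp_def, map_commutatorElement]

theorem length_glueRels {H : Type*} [Group H] (a : Sp4 → H)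
    (p : Perm (Fin n) → H) (g0 g01 d : List (Perm (Fin n))) (s : List SL2) (t σ τ' : Perm (Fin n)) :
    (glueRels a p g0 g01 d s t σ τ').length =
      3 + g0.length * s.length + g01.length + s.length + d.length := by
  simp [glueRels, List.length_flatMap, List.map_const', List.sum_replicate]
  ring

/-- Two permutations generating a pointwise stabiliser. -/
theorem exists_stab_gens (S : Finset (Fin n)) :
    ∃ l : List (Perm (Fin n)), l.length ≤ 2 ∧ (∀ g ∈ l, ∀ x ∈ S, g x = x) ∧
      ∀ σ : Perm (Fin n), (∀ x ∈ S, σ x = x) → σ ∈ Subgroup.closure {g | g ∈ l} := by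
  classical
  obtain ⟨v, hv⟩ := two_gen (Fintype.card {x // x ∉ S}) false
  have hv' := (hv.map ((symEquiv _).trans (Fintype.equivFin {x // x ∉ S}).symm.permCongrHom)).closure_eq_top
  set w := fun i => ((symEquiv _).trans (Fintype.equivFin {x // x ∉ S}).symm.permCongrHom) (v i)
    with hw
  refine ⟨[Perm.ofSubtype (w 0), Perm.ofSubtype (w 1)], le_rfl, ?_, fun σ hσ => ?_⟩
  · intro g hg x hx
    simp only [List.mem_cons, List.not_mem_nil, or_false] at hg
    rcases hg with rfl | rfl <;> exact Perm.ofSubtype_apply_of_not_mem _ (by simpa using hx)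
  · have hmem : ∀ x, σ x ≠ x → x ∉ S := fun x hx h => hx (hσ x h)
    have hfix : ∀ x, x ∉ S ↔ σ x ∉ S := fun x => by
      constructor
      · intro h h'
        have := σ.injective (hσ _ h')
        exact h (this ▸ h')
      · intro h h'
        exact h (by rw [hσ x h']; exact h')
    have e : Perm.ofSubtype (σ.subtypePerm fun x => (hfix x).symm) = σ :=
      Perm.ofSubtype_subtypePerm _ hmem
    rw [← e]
    have : σ.subtypePerm (fun x => (hfix x).symm) ∈ Subgroup.closure (Set.range w) := by
      rw [hv']; exact Subgroup.mem_top _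
    have h2 := Subgroup.mem_map_of_mem (Perm.ofSubtype : Perm {x // x ∉ S} →* Perm (Fin n)) this
    rw [MonoidHom.map_closure] at h2
    refine Subgroup.closure_mono ?_ h2
    rintro g ⟨_, ⟨i, rfl⟩, rfl⟩
    fin_cases i <;> simp

theorem commute_closure {G : Type*} [Group G] {S T : Set G}
    (h : ∀ x ∈ S, ∀ y ∈ T, Commute x y) {x y : G} (hx : x ∈ Subgroup.closure S)
    (hy : y ∈ Subgroup.closure T) : Commute x y := by
  induction hx using Subgroup.closure_induction with
  | mem x hx =>
    induction hy using Subgroup.closure_induction with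
    | mem y hy => exact h x hx y hy
    | one => exact Commute.one_right _
    | mul _ _ _ _ h1 h2 => exact h1.mul_right h2
    | inv _ _ h1 => exact h1.inv_right
  | one => exact Commute.one_left _
  | mul _ _ _ _ h1 h2 => exact h1.mul_left h2
  | inv _ _ h1 => exact h1.inv_left

theorem exists_word {ι : Type} {G : Type*} [Group G] {v : ι → G} {r : ℕ} (h : HasPres v r) (g : G) :
    ∃ w, FreeGroup.lift v w = g := by
  have : g ∈ (FreeGroup.lift v).range := by
    rw [FreeGroup.range_lift_eq_closure, h.closure_eq_top]; exact Subgroup.mem_top g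
  exact this

/-- The presentation of `Sp_{2n}` built from those of `Sp_4` and of the symmetric group. -/
theorem core [Fintype F] (hn : 3 ≤ n) {k r : ℕ} {vS : Fin k → Perm (Fin n)} (hS : HasPres vS r) :
    ∃ v : Fin (6 + k) → Matrix.symplecticGroup (Fin n) F,
      HasPres v (35 + r + (if 4 ≤ n then 15 else 12)) := by
  classical
  obtain ⟨R4, hR4, ⟨e4⟩⟩ := (CfsgLib.SpFourPresent.main (F := F)).1
  set v4 : Fin 6 → Sp4 := fun i => e4 (PresentedGroup.of i) with hv4
  have h4 : HasPres v4 35 := ⟨R4, hR4, e4, fun i => rfl⟩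
  obtain ⟨RS, hRS, eS, heS⟩ := id hS
  obtain ⟨ω, -, R2, -, hP2⟩ := exists_sl_two_rels (F := F)
  have hstd := hP2.closure_eq_top
  choose w4 hw4 using exists_word h4
  choose wS hwS using exists_word hS
  let i0 : Fin n := ⟨0, by omega⟩
  let i1 : Fin n := ⟨1, by omega⟩
  let i2 : Fin n := ⟨2, by omega⟩
  have h01 : i0 ≠ i1 := by simp [i0, i1, Fin.ext_iff]
  have h02 : i0 ≠ i2 := by simp [i0, i2, Fin.ext_iff]
  have h12 : i1 ≠ i2 := by simp [i1, i2, Fin.ext_iff]
  obtain ⟨g0, hg0l, hg0f, hg0⟩ := exists_stab_gens ({i0} : Finset (Fin n))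
  obtain ⟨g01, hg01l, hg01f, hg01⟩ : ∃ l : List (Perm (Fin n)), l.length ≤ (if 4 ≤ n then 2 else 0) ∧
      (∀ g ∈ l, ∀ x ∈ ({i0, i1} : Finset (Fin n)), g x = x) ∧
      ∀ σ : Perm (Fin n), (∀ x ∈ ({i0, i1} : Finset (Fin n)), σ x = x) →
        σ ∈ Subgroup.closure {g | g ∈ l} := by
    split_ifs with h4n
    · exact exists_stab_gens _
    · refine ⟨[], le_rfl, by simp, fun σ hσ => ?_⟩
      have : σ = 1 := by
        have hall : ∀ x : Fin n, x = i0 ∨ x = i1 ∨ x = i2 := fun x => by
          have := x.2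
          simp only [i0, i1, i2, Fin.ext_iff]
          omega
        have e0 := hσ i0 (by simp)
        have e1 := hσ i1 (by simp)
        refine Equiv.ext fun x => ?_
        rcases hall x with rfl | rfl | rfl
        · exact e0
        · exact e1
        · rcases hall (σ i2) with h | h | h
          · exact absurd (σ.injective (h.trans e0.symm)) h02.symm
          · exact absurd (σ.injective (h.trans e1.symm)) h12.symm
          · exact h
      rw [this]; exact one_mem _
  obtain ⟨σ, hσ0, hσ1⟩ := exists_perm2 (a := i0) (b := i1) (a' := i1) (b' := i2) h01 h12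
  obtain ⟨τ', hτ0, hτ1⟩ := exists_perm2 (a := i0) (b := i1) (a' := i0) (b' := i2) h01 h02
  obtain ⟨d, hdl, hdf, hde⟩ : ∃ d : List (Perm (Fin n)), d.length ≤ (if 4 ≤ n then 1 else 0) ∧
      (∀ ρ ∈ d, ρ i0 ≠ i0 ∧ ρ i0 ≠ i1 ∧ ρ i1 ≠ i0 ∧ ρ i1 ≠ i1) ∧ (4 ≤ n → ∃ ρ, ρ ∈ d) := by
    split_ifs with h4n
    · let i3 : Fin n := ⟨3, by omega⟩
      obtain ⟨ρ, r0, r1⟩ := exists_perm2 (a := i0) (b := i1) (a' := i2) (b' := i3) h01
        (by simp [i2, i3, Fin.ext_iff])
      refine ⟨[ρ], le_rfl, ?_, fun _ => ⟨ρ, List.mem_singleton_self ρ⟩⟩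
      intro x hx
      rw [List.mem_singleton.1 hx, r0, r1]
      exact ⟨h02.symm, h12.symm, by simp [i0, i3, Fin.ext_iff], by simp [i1, i3, Fin.ext_iff]⟩
    · exact ⟨[], le_rfl, by simp, fun h => absurd h h4n⟩
  set s3 : List SL2 := [uu 1, dd ω, ww] with hs3
  let ι4 : FreeGroup (Fin 6) →* FreeGroup (Fin 6 ⊕ Fin k) := FreeGroup.map Sum.inl
  let ιS : FreeGroup (Fin k) →* FreeGroup (Fin 6 ⊕ Fin k) := FreeGroup.map Sum.inr
  let L := glueRels (fun m => ι4 (w4 m)) (fun x => ιS (wS x)) g0 g01 d s3 (swap i0 i1) σ τ'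
  set R : Finset (FreeGroup (Fin 6 ⊕ Fin k)) := R4.image ι4 ∪ RS.image ιS ∪ L.toFinset with hR
  set E : Sp4 →* Matrix.symplecticGroup (Fin n) F := emb (pr i0 i1 h01) with hE
  set v0 : Fin 6 ⊕ Fin k → Matrix.symplecticGroup (Fin n) F :=
    Sum.elim (fun i => E (v4 i)) (fun i => permSp (vS i)) with hv0
  have hl4 : ∀ x, FreeGroup.lift v0 (ι4 x) = E (FreeGroup.lift v4 x) := fun x => by
    have : (FreeGroup.lift v0).comp ι4 = E.comp (FreeGroup.lift v4) :=
      FreeGroup.ext_hom _ _ fun i => by simp [ι4, hv0]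
    exact DFunLike.congr_fun this x
  have hlS : ∀ x, FreeGroup.lift v0 (ιS x) = permSp (FreeGroup.lift vS x) := fun x => by
    have : (FreeGroup.lift v0).comp ιS = permSp.comp (FreeGroup.lift vS) :=
      FreeGroup.ext_hom _ _ fun i => by simp [ιS, hv0]
    exact DFunLike.congr_fun this x
  -- the relations hold
  have heA : ∀ (g : Perm (Fin n)), g i0 = i0 → ∀ M, Commute (permSp g) (E (eA M)) := by
    intro g hg M
    have h := emb_pr_perm g i0 i1 h01 (eA M)
    rw [← hE] at h
    have hj : i0 ≠ g i1 := fun e => h01 (g.injective (hg.trans e))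
    have e1 : emb (pr (g i0) (g i1) (g.injective.ne h01)) (eA M) = E (eA M) := by
      have : ∀ (a : Fin n) (ha : a ≠ g i1), a = i0 →
          emb (pr a (g i1) ha) (eA M) = E (eA M) := by
        rintro a ha rfl
        exact eA_indep ha h01 M
      exact this _ _ hg
    rw [e1, mul_inv_eq_iff_eq_mul] at h
    exact h
  have hrels : ∀ x ∈ (↑R : Set (FreeGroup (Fin 6 ⊕ Fin k))), FreeGroup.lift v0 x = 1 := by
    intro x hx
    simp only [hR, Finset.coe_union, Finset.coe_image, Set.mem_union, Set.mem_image,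
      Finset.mem_coe, List.mem_toFinset] at hx
    rcases hx with (⟨y, hy, rfl⟩ | ⟨y, hy, rfl⟩) | hx
    · rw [hl4, HasPres.lift_eq e4 (fun i => rfl), PresentedGroup.one_of_mem (Finset.mem_coe.2 hy),
        map_one, map_one]
    · rw [hlS, HasPres.lift_eq eS heS, PresentedGroup.one_of_mem (Finset.mem_coe.2 hy), map_one,
        map_one]
    · have h1 := List.mem_map_of_mem (f := FreeGroup.lift v0) hx
      simp only [L, map_glueRels, hl4, hlS, hw4, hwS] at h1
      simp only [glueRels, List.mem_append, List.mem_flatMap, List.mem_map, List.mem_cons,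
        List.not_mem_nil, or_false] at h1
      have hEσ : permSp σ * E (rm 1) * (permSp σ)⁻¹ = emb (pr i1 i2 h12) (rm (1 : F)) := by
        rw [hE, emb_pr_perm]
        congr 2
        ext a; fin_cases a <;> simp [hσ0, hσ1]
      have hEτ : permSp τ' * E (rm 1) * (permSp τ')⁻¹ = emb (pr i0 i2 h02) (rm (1 : F)) := by
        rw [hE, emb_pr_perm]
        congr 2
        ext a; fin_cases a <;> simp [hτ0, hτ1]
      generalize FreeGroup.lift v0 x = X at h1 ⊢
      rcases h1 with ((((rfl | ⟨g, hg, M, -, rfl⟩) | ⟨g, hg, rfl⟩) | ⟨M, -, rfl⟩) |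
        (rfl | rfl)) | ⟨ρ, hρ, rfl⟩
      · rw [hE, emb_sw, mul_inv_cancel]
      · rw [commutatorElement_eq_one_iff_commute]
        exact heA g (hg0f g hg i0 (Finset.mem_singleton_self _)) M
      · rw [commutatorElement_eq_one_iff_commute]
        have h := emb_pr_perm g i0 i1 h01 (rm (1 : F))
        rw [← hE, show emb (pr (g i0) (g i1) (g.injective.ne h01)) (rm (1 : F)) = E (rm 1) by
          rw [hE]
          congr 2
          ext a
          fin_cases a <;> simp [hg01f g hg], mul_inv_eq_iff_eq_mul] at h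
        exact h
      · rw [commutatorElement_eq_one_iff_commute, hEσ]
        exact eA_commute h01 h02 h12 M _
      · rw [commutatorElement_eq_one_iff_commute, hEτ]
        exact rm_commute h01 h02 h12 1 1
      · rw [hEσ, hEτ, hE, rm_a20 h01 h02 h12, mul_inv_cancel]
      · rw [commutatorElement_eq_one_iff_commute, hE, emb_pr_perm]
        obtain ⟨p1, p2, p3, p4⟩ := hdf ρ hρ
        refine emb_commute _ _ (fun a b => ?_) _ _
        fin_cases a <;> fin_cases b
        exacts [p1.symm, p3.symm, p2.symm, p4.symm]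
  -- the abstract group
  set π : PresentedGroup (↑R : Set (FreeGroup (Fin 6 ⊕ Fin k))) →* Matrix.symplecticGroup (Fin n) F :=
    PresentedGroup.toGroup hrels with hπ
  set q := PresentedGroup.mk (↑R : Set (FreeGroup (Fin 6 ⊕ Fin k))) with hq
  have hπq : ∀ x, π (q x) = FreeGroup.lift v0 x := fun x => by
    have : π.comp q = FreeGroup.lift v0 := FreeGroup.ext_hom _ _ fun i => by
      rw [FreeGroup.lift_apply_of]
      exact PresentedGroup.toGroup.of hrels
    exact DFunLike.congr_fun this x
  have hin4 : ∀ y ∈ (↑R4 : Set (FreeGroup (Fin 6))),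
      FreeGroup.lift (fun i => q (FreeGroup.of (Sum.inl i))) y = 1 := by
    intro y hy
    rw [show FreeGroup.lift (fun i => q (FreeGroup.of (Sum.inl i))) = q.comp ι4 from
      FreeGroup.ext_hom _ _ fun i => by simp [ι4]]
    refine PresentedGroup.one_of_mem ?_
    simp only [hR, Finset.coe_union, Finset.coe_image]
    exact Or.inl (Or.inl ⟨y, hy, rfl⟩)
  have hinS : ∀ y ∈ (↑RS : Set (FreeGroup (Fin k))),
      FreeGroup.lift (fun i => q (FreeGroup.of (Sum.inr i))) y = 1 := by
    intro y hy
    rw [show FreeGroup.lift (fun i => q (FreeGroup.of (Sum.inr i))) = q.comp ιS from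
      FreeGroup.ext_hom _ _ fun i => by simp [ιS]]
    refine PresentedGroup.one_of_mem ?_
    simp only [hR, Finset.coe_union, Finset.coe_image]
    exact Or.inl (Or.inr ⟨y, hy, rfl⟩)
  set α : Sp4 →* PresentedGroup (↑R : Set (FreeGroup (Fin 6 ⊕ Fin k))) :=
    (PresentedGroup.toGroup hin4).comp e4.symm.toMonoidHom with hα
  set ψ : Perm (Fin n) →* PresentedGroup (↑R : Set (FreeGroup (Fin 6 ⊕ Fin k))) :=
    (PresentedGroup.toGroup hinS).comp eS.symm.toMonoidHom with hψ
  have hαw : ∀ x, α (FreeGroup.lift v4 x) = q (ι4 x) := fun x => by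
    have : α.comp (FreeGroup.lift v4) = q.comp ι4 := FreeGroup.ext_hom _ _ fun i => by
      simp only [MonoidHom.comp_apply, FreeGroup.lift_apply_of, hα, hv4,
        MulEquiv.coe_toMonoidHom, MulEquiv.symm_apply_apply]
      exact PresentedGroup.toGroup.of hin4
    exact DFunLike.congr_fun this x
  have hψw : ∀ x, ψ (FreeGroup.lift vS x) = q (ιS x) := fun x => by
    have : ψ.comp (FreeGroup.lift vS) = q.comp ιS := FreeGroup.ext_hom _ _ fun i => by
      simp only [MonoidHom.comp_apply, FreeGroup.lift_apply_of, hψ, ← heS i,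
        MulEquiv.coe_toMonoidHom, MulEquiv.symm_apply_apply]
      exact PresentedGroup.toGroup.of hinS
    exact DFunLike.congr_fun this x
  have hglue : ∀ z ∈ glueRels (⇑α) (⇑ψ) g0 g01 d s3 (swap i0 i1) σ τ', z = 1 := by
    intro z hz
    have e : glueRels (⇑α) (⇑ψ) g0 g01 d s3 (swap i0 i1) σ τ' = L.map q := by
      simp only [L, map_glueRels, ← hαw, ← hψw, hw4, hwS]
    rw [e, List.mem_map] at hz
    obtain ⟨y, hy, rfl⟩ := hz
    refine PresentedGroup.one_of_mem ?_
    simp only [hR, Finset.coe_union, Set.mem_union, Finset.mem_coe, List.mem_toFinset]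
    exact Or.inr hy
  simp only [glueRels, List.mem_append, List.mem_flatMap, List.mem_map, List.mem_cons,
    List.not_mem_nil, or_false] at hglue
  let A : Amalgam n F (PresentedGroup (↑R : Set (FreeGroup (Fin 6 ⊕ Fin k)))) :=
    { hn := hn, π := π, α := α, ψ := ψ, i0 := i0, i1 := i1, i2 := i2
      h01 := h01, h02 := h02, h12 := h12
      π_α := fun m => by rw [← hw4 m, hαw, hπq, hl4]
      π_ψ := fun x => by rw [← hwS x, hψw, hπq, hlS]
      ha := mul_inv_eq_one.1 (hglue _ (Or.inl (Or.inl (Or.inl (Or.inl (Or.inl rfl))))))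
      hb := fun g hg M => by
        have h1 : g ∈ Subgroup.closure {x | x ∈ g0} := hg0 g (by simpa using hg)
        have h2 : M ∈ Subgroup.closure {x | x ∈ s3} := by
          have : ({x | x ∈ s3} : Set SL2) = {uu 1, dd ω, ww} := by ext; simp [hs3]
          rw [this, hstd]; exact Subgroup.mem_top M
        have h1' := Subgroup.mem_map_of_mem ψ h1
        have h2' := Subgroup.mem_map_of_mem (α.comp eA) h2
        rw [MonoidHom.map_closure] at h1' h2'
        refine commute_closure ?_ h1' h2'
        rintro _ ⟨x, hx, rfl⟩ _ ⟨N, hN, rfl⟩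
        exact commutatorElement_eq_one_iff_commute.1
          (hglue _ (Or.inl (Or.inl (Or.inl (Or.inl (Or.inr ⟨x, hx, N, hN, rfl⟩))))))
      hc := fun g hg hg' => by
        have h1 := Subgroup.mem_map_of_mem ψ (hg01 g (by simp [hg, hg']))
        rw [MonoidHom.map_closure] at h1
        refine commute_closure (T := {α (rm 1)}) ?_ h1 (Subgroup.subset_closure rfl)
        rintro _ ⟨x, hx, rfl⟩ _ rfl
        exact commutatorElement_eq_one_iff_commute.1
          (hglue _ (Or.inl (Or.inl (Or.inl (Or.inr ⟨x, hx, rfl⟩)))))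
      hd := ⟨σ, hσ0, hσ1, fun M => by
          have h2 : M ∈ Subgroup.closure {x | x ∈ s3} := by
            have : ({x | x ∈ s3} : Set SL2) = {uu 1, dd ω, ww} := by ext; simp [hs3]
            rw [this, hstd]; exact Subgroup.mem_top M
          have h2' := Subgroup.mem_map_of_mem (α.comp eA) h2
          rw [MonoidHom.map_closure] at h2'
          refine commute_closure (T := {ψ σ * α (rm 1) * (ψ σ)⁻¹}) ?_ h2'
            (Subgroup.subset_closure rfl)
          rintro _ ⟨N, hN, rfl⟩ _ rfl
          exact commutatorElement_eq_one_iff_commute.1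
            (hglue _ (Or.inl (Or.inl (Or.inr ⟨N, hN, rfl⟩)))),
        τ', hτ0, hτ1,
        commutatorElement_eq_one_iff_commute.1 (hglue _ (Or.inl (Or.inr (Or.inl rfl)))),
        mul_inv_eq_one.1 (hglue _ (Or.inl (Or.inr (Or.inr rfl))))⟩
      he := fun h4n => by
        obtain ⟨ρ, hρ⟩ := hde h4n
        obtain ⟨p1, p2, p3, p4⟩ := hdf ρ hρ
        exact ⟨ρ, p1, p2, p3, p4,
          commutatorElement_eq_one_iff_commute.1 (hglue _ (Or.inr ⟨ρ, hρ, rfl⟩))⟩ }
  have hgen : Subgroup.closure (Set.range α ∪ Set.range ψ) = ⊤ := by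
    rw [eq_top_iff, ← PresentedGroup.closure_range_of, Subgroup.closure_le]
    rintro _ ⟨i | i, rfl⟩ <;> refine Subgroup.subset_closure ?_
    · refine Or.inl ⟨v4 i, ?_⟩
      rw [← FreeGroup.lift_apply_of (f := v4) (x := i), hαw]
      simp only [ι4, FreeGroup.map.of]
      rfl
    · refine Or.inr ⟨vS i, ?_⟩
      rw [← FreeGroup.lift_apply_of (f := vS) (x := i), hψw]
      simp only [ιS, FreeGroup.map.of]
      rfl
  let e := MulEquiv.ofBijective π (A.data.bijective (A.gs_top hgen))
  have hcard : R.card ≤ 35 + r + (if 4 ≤ n then 15 else 12) := by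
    have hL : L.toFinset.card ≤ (if 4 ≤ n then 15 else 12) := by
      refine (List.toFinset_card_le L).trans ?_
      simp only [L, length_glueRels, hs3, List.length_cons, List.length_nil]
      split_ifs with h4n <;> simp only [h4n, if_true, if_false] at hg01l hdl <;> omega
    have h1 := (Finset.card_image_le (s := R4) (f := ι4)).trans hR4
    have h2 := (Finset.card_image_le (s := RS) (f := ιS)).trans hRS
    rw [hR]
    refine (Finset.card_union_le _ _).trans ?_
    refine (Nat.add_le_add_right (Finset.card_union_le _ _) _).trans ?_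
    omega
  have hfull : HasPres v0 (35 + r + (if 4 ≤ n then 15 else 12)) :=
    ⟨R, hcard, e, fun i => PresentedGroup.toGroup.of hrels⟩
  refine ⟨fun j => v0 (finSumFinEquiv.symm j), ?_⟩
  have := hfull.change (fun j => v0 (finSumFinEquiv.symm j)) ∅
    (fun i => FreeGroup.of (finSumFinEquiv i)) (fun i => by simp)
    (fun j => FreeGroup.of (finSumFinEquiv.symm j)) (fun j => by simp)
    (fun j _ => by simp)
  simpa using this

end CfsgLib.SpPresent
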