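import Cfsg.Agent.Lib.SpFourPresent.Target

/-!
Coordinate embeddings of symplectic groups, and elements of `Sp_4`.
-/

set_option autoImplicit false
set_option linter.unusedSectionVars false

namespace CfsgLib.SpPresent

open Matrix Cfsg CfsgLib.Sp SLTwoPresent CfsgLib.SpFourPresent

variable {F : Type*} [Field F] {n m k : ℕ}

/-- The coordinate map of an injection. -/
abbrev cm (f : Fin m → Fin n) : Fin m ⊕ Fin m → Fin n ⊕ Fin n := Sum.map f f

theorem cm_injective {f : Fin m → Fin n} (hf : Function.Injective f) :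
    Function.Injective (cm f) := Sum.map_injective.2 ⟨hf, hf⟩

/-- The index of a coordinate. -/
def idx (x : Fin n ⊕ Fin n) : Fin n := Sum.elim id id x

theorem exists_cm_iff {f : Fin m → Fin n} (x : Fin n ⊕ Fin n) :
    (∃ a, cm f a = x) ↔ ∃ i, f i = idx x := by
  constructor
  · rintro ⟨a | a, rfl⟩ <;> exact ⟨a, rfl⟩
  · rintro ⟨i, hi⟩
    rcases x with x | x <;> subst hi
    exacts [⟨Sum.inl i, rfl⟩, ⟨Sum.inr i, rfl⟩]

/-- The linear map of an embedded matrix. -/
noncomputable def embLin (f : Fin m → Fin n) (M : Matrix (Fin m ⊕ Fin m) (Fin m ⊕ Fin m) F) :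
    (Fin n ⊕ Fin n → F) →ₗ[F] (Fin n ⊕ Fin n → F) := by
  classical
  exact
  { toFun := fun v x => if h : ∃ a, cm f a = x then (M *ᵥ fun b => v (cm f b)) h.choose else v x
    map_add' := fun u v => by
      funext x
      simp only [Pi.add_apply]
      split_ifs with h
      · rw [show (fun b => u (cm f b) + v (cm f b)) = (fun b => u (cm f b)) + fun b => v (cm f b)
          from rfl, mulVec_add]
        rfl
      · rfl
    map_smul' := fun c v => by
      funext x
      simp only [Pi.smul_apply, RingHom.id_apply]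
      split_ifs with h
      · rw [show (fun b => c • v (cm f b)) = c • fun b => v (cm f b) from rfl, mulVec_smul]
        rfl
      · rfl }

theorem embLin_in (f : Fin m → Fin n) (hf : Function.Injective f)
    (M : Matrix (Fin m ⊕ Fin m) (Fin m ⊕ Fin m) F) (v : Fin n ⊕ Fin n → F) (a : Fin m ⊕ Fin m) :
    embLin f M v (cm f a) = (M *ᵥ fun b => v (cm f b)) a := by
  classical
  have h : ∃ a', cm f a' = cm f a := ⟨a, rfl⟩
  show (if h : ∃ a', cm f a' = cm f a then (M *ᵥ fun b => v (cm f b)) h.choose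
    else v (cm f a)) = _
  rw [dif_pos h, cm_injective hf h.choose_spec]

theorem embLin_out (f : Fin m → Fin n) (M : Matrix (Fin m ⊕ Fin m) (Fin m ⊕ Fin m) F)
    (v : Fin n ⊕ Fin n → F) {x : Fin n ⊕ Fin n} (hx : ∀ i, f i ≠ idx x) : embLin f M v x = v x := by
  classical
  have h : ¬ ∃ a, cm f a = x := fun h => by
    obtain ⟨i, hi⟩ := (exists_cm_iff x).1 h
    exact hx i hi
  show (if h : ∃ a, cm f a = x then (M *ᵥ fun b => v (cm f b)) h.choose else v x) = _
  rw [dif_neg h]

/-- The restriction to the coordinates of an injection, and the rest. -/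
theorem ext_cm {f : Fin m → Fin n} {u v : Fin n ⊕ Fin n → F}
    (h1 : ∀ a, u (cm f a) = v (cm f a)) (h2 : ∀ x, (∀ i, f i ≠ idx x) → u x = v x) : u = v := by
  funext x
  by_cases h : ∃ i, f i = idx x
  · obtain ⟨a, rfl⟩ := (exists_cm_iff x).2 h
    exact h1 a
  · exact h2 x (not_exists.1 h)

theorem sympForm_split (f : Fin m ↪ Fin n) (u v : Fin n ⊕ Fin n → F) :
    sympForm n F u v = sympForm m F (fun b => u (cm f b)) (fun b => v (cm f b)) +
      ∑ i ∈ Finset.univ.filter (fun i => ∀ a, f a ≠ i),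
        (u (.inr i) * v (.inl i) - u (.inl i) * v (.inr i)) := by
  classical
  rw [sympForm_eq_sum, sympForm_eq_sum,
    ← Finset.sum_filter_add_sum_filter_not Finset.univ (fun i => ∃ a, f a = i)]
  congr 1
  · rw [show Finset.univ.filter (fun i => ∃ a, f a = i) = Finset.univ.map f by ext; simp,
      Finset.sum_map]
    rfl
  · refine Finset.sum_congr ?_ fun _ _ => rfl
    ext; simp

/-- The coordinate embedding of `Sp_{2m}` into `Sp_{2n}`. -/
noncomputable def emb (f : Fin m ↪ Fin n) :
    symplecticGroup (Fin m) F →* symplecticGroup (Fin n) F where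
  toFun M := ⟨LinearMap.toMatrix' (embLin f M.1), by
    rw [mem_symplecticGroup_iff]
    intro u v
    simp only [LinearMap.toMatrix'_mulVec]
    rw [sympForm_split f, sympForm_split f u v]
    congr 1
    · simp only [embLin_in f f.injective]
      exact sympForm_mulVec M _ _
    · refine Finset.sum_congr rfl fun i hi => ?_
      have hi' : ∀ a, f a ≠ i := (Finset.mem_filter.1 hi).2
      rw [embLin_out f M.1 u (x := .inr i) hi', embLin_out f M.1 u (x := .inl i) hi',
        embLin_out f M.1 v (x := .inr i) hi', embLin_out f M.1 v (x := .inl i) hi']⟩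
  map_one' := by
    refine toEquiv_injective (LinearEquiv.ext fun v => ?_)
    simp only [toEquiv_apply, LinearMap.toMatrix'_mulVec, Submonoid.coe_one, one_mulVec]
    refine ext_cm (f := f) (fun a => ?_) fun x hx => ?_
    · rw [embLin_in f f.injective, one_mulVec]
    · rw [embLin_out f _ v hx]
  map_mul' M N := by
    refine toEquiv_injective (LinearEquiv.ext fun v => ?_)
    simp only [toEquiv_apply, Submonoid.coe_mul, ← mulVec_mulVec, LinearMap.toMatrix'_mulVec]
    refine ext_cm (f := f) (fun a => ?_) fun x hx => ?_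
    · rw [embLin_in f f.injective, embLin_in f f.injective]
      simp only [embLin_in f f.injective, mulVec_mulVec]
    · rw [embLin_out f _ _ hx, embLin_out f _ _ hx, embLin_out f _ _ hx]

theorem emb_in (f : Fin m ↪ Fin n) (M : symplecticGroup (Fin m) F) (v : Fin n ⊕ Fin n → F)
    (a : Fin m ⊕ Fin m) : ((emb f M).1 *ᵥ v) (cm f a) = (M.1 *ᵥ fun b => v (cm f b)) a := by
  show (LinearMap.toMatrix' (embLin f M.1) *ᵥ v) _ = _
  rw [LinearMap.toMatrix'_mulVec, embLin_in f f.injective]

theorem emb_out (f : Fin m ↪ Fin n) (M : symplecticGroup (Fin m) F) (v : Fin n ⊕ Fin n → F)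
    {x : Fin n ⊕ Fin n} (hx : ∀ i, f i ≠ idx x) : ((emb f M).1 *ᵥ v) x = v x := by
  show (LinearMap.toMatrix' (embLin f M.1) *ᵥ v) _ = _
  rw [LinearMap.toMatrix'_mulVec, embLin_out f _ v hx]

theorem ext_vec {A B : symplecticGroup (Fin n) F} (h : ∀ v, A.1 *ᵥ v = B.1 *ᵥ v) : A = B :=
  toEquiv_injective (LinearEquiv.ext h)

theorem emb_injective (f : Fin m ↪ Fin n) : Function.Injective (emb (F := F) f) := by
  classical
  intro A B h
  refine ext_vec fun w => funext fun a => ?_
  let v : Fin n ⊕ Fin n → F := Function.extend (cm f) w 0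
  have hv : (fun b => v (cm f b)) = w := funext fun b => (cm_injective f.injective).extend_apply w 0 b
  have h1 := emb_in f A v a
  rw [h, emb_in, hv] at h1
  exact h1.symm

theorem emb_comp (f : Fin m ↪ Fin n) (g : Fin k ↪ Fin m) (M : symplecticGroup (Fin k) F) :
    emb f (emb g M) = emb (g.trans f) M := by
  refine ext_vec fun v => ext_cm (f := f) (fun a => ?_) fun x hx => ?_
  · rw [emb_in]
    by_cases h : ∃ i, g i = idx a
    · obtain ⟨b, rfl⟩ := (exists_cm_iff a).2 h
      rw [emb_in, show cm f (cm g b) = cm (g.trans f) b by rcases b with b | b <;> rfl, emb_in]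
      congr 2
      funext c; rcases c with c | c <;> rfl
    · push Not at h
      rw [emb_out g M _ h, emb_out (g.trans f) M v]
      intro i hi
      refine h i (f.injective ?_)
      rcases a with a | a <;> exact hi
  · rw [emb_out f _ _ hx, emb_out (g.trans f) _ _ fun i => hx (g i)]

theorem emb_commute (f g : Fin m ↪ Fin n) (h : ∀ a b, f a ≠ g b) (M N : symplecticGroup (Fin m) F) :
    Commute (emb f M) (emb g N) := by
  refine ext_vec fun v => ?_
  simp only [Submonoid.coe_mul, ← mulVec_mulVec]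
  have hfg : ∀ a i, g i ≠ idx (cm f a) := fun a i => by
    rcases a with a | a <;> exact (h a i).symm
  have hgf : ∀ b i, f i ≠ idx (cm g b) := fun b i => by
    rcases b with b | b <;> exact h i b
  refine ext_cm (f := f) (fun a => ?_) fun x hx => ?_
  · rw [emb_in, emb_out g N _ (hfg a), emb_in]
    congr 2
    funext b
    rw [emb_out g N _ (hfg b)]
  · rw [emb_out f M _ hx]
    by_cases h' : ∃ i, g i = idx x
    · obtain ⟨b, rfl⟩ := (exists_cm_iff x).2 h'
      rw [emb_in, emb_in]
      congr 2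
      funext c
      rw [emb_out f M _ (hgf c)]
    · push Not at h'
      rw [emb_out g N _ h', emb_out g N _ h', emb_out f M _ hx]

/-- The injection of a pair of indices. -/
def pr (i j : Fin n) (h : i ≠ j) : Fin 2 ↪ Fin n :=
  ⟨![i, j], fun a b hab => by
    fin_cases a <;> fin_cases b <;> first | rfl | exact absurd hab h | exact absurd hab.symm h⟩

@[simp] theorem pr_zero (i j : Fin n) (h : i ≠ j) : pr i j h 0 = i := rfl

@[simp] theorem pr_one (i j : Fin n) (h : i ≠ j) : pr i j h 1 = j := rfl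

/-- Exchange of the two coordinates of `Sp_4`. -/
noncomputable def τ : symplecticGroup (Fin 2) F →* symplecticGroup (Fin 2) F :=
  emb (Equiv.swap (0 : Fin 2) 1).toEmbedding

theorem emb_pr_swap (i j : Fin n) (h : i ≠ j) (M : symplecticGroup (Fin 2) F) :
    emb (pr j i h.symm) M = emb (pr i j h) (τ M) := by
  rw [τ, emb_comp]
  congr 1
  congr 1
  ext a
  fin_cases a <;> rfl

theorem τ_τ (M : symplecticGroup (Fin 2) F) : τ (τ M) = M := by
  rw [τ, emb_comp]
  refine ext_vec fun v => ext_cm (f := id) (fun a => ?_) fun x hx => absurd rfl (hx (idx x))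
  have e : ∀ b, cm (⇑((Equiv.swap (0 : Fin 2) 1).toEmbedding.trans
      (Equiv.swap (0 : Fin 2) 1).toEmbedding)) b = b := by
    intro b; rcases b with b | b <;> fin_cases b <;> rfl
  have h := emb_in ((Equiv.swap (0 : Fin 2) 1).toEmbedding.trans
    (Equiv.swap (0 : Fin 2) 1).toEmbedding) M v a
  rw [e] at h
  simp only [e] at h
  have hc : cm (id : Fin 2 → Fin 2) a = a := by rcases a with a | a <;> rfl
  rw [hc]
  exact h

/-! ### Elements of `Sp_4` -/

/-- The permutation of the two coordinates. -/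
def sw : symplecticGroup (Fin 2) F :=
  ⟨fromBlocks !![0, 1; 1, 0] 0 0 !![0, 1; 1, 0], by
    rw [SymplecticGroup.fromBlocks_mem_iff]
    refine ⟨by simp, by simp, ?_⟩
    simp [← Matrix.ext_iff, Fin.forall_fin_two, Matrix.mul_apply, Fin.sum_univ_two]⟩

/-- The root element of `e₀ - e₁`. -/
def rm (t : F) : symplecticGroup (Fin 2) F := embA (uu t)

/-- The root element of `e₀ + e₁`. -/
def rp (t : F) : symplecticGroup (Fin 2) F := sieg 0 t 0

/-- `SL_2` on the first coordinate. -/
noncomputable def eA : Matrix.SpecialLinearGroup (Fin 2) F →* symplecticGroup (Fin 2) F :=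
  τ.comp embB

theorem τ_eA (M : Matrix.SpecialLinearGroup (Fin 2) F) : τ (eA M) = embB M := τ_τ _

theorem τ_apply (M : symplecticGroup (Fin 2) F) (a b c d : F) :
    (τ M).1 *ᵥ Sum.elim ![a, b] ![c, d] =
      Sum.elim ![(M.1 *ᵥ Sum.elim ![b, a] ![d, c]) (.inl 1), (M.1 *ᵥ Sum.elim ![b, a] ![d, c]) (.inl 0)]
        ![(M.1 *ᵥ Sum.elim ![b, a] ![d, c]) (.inr 1), (M.1 *ᵥ Sum.elim ![b, a] ![d, c]) (.inr 0)] := by
  have key : ∀ x : Fin 2 ⊕ Fin 2, ((τ M).1 *ᵥ Sum.elim ![a, b] ![c, d])
      (cm (Equiv.swap (0 : Fin 2) 1) x) = (M.1 *ᵥ Sum.elim ![b, a] ![d, c]) x := by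
    intro x
    rw [show cm (Equiv.swap (0 : Fin 2) 1) x = cm (Equiv.swap (0 : Fin 2) 1).toEmbedding x from rfl,
      τ, emb_in]
    congr 2
    funext y
    rcases y with y | y <;> fin_cases y <;> rfl
  funext x
  rcases x with x | x <;> fin_cases x
  · exact key (.inl 1)
  · exact key (.inl 0)
  · exact key (.inr 1)
  · exact key (.inr 0)

theorem eq_of_elim {A B : symplecticGroup (Fin 2) F}
    (h : ∀ a b c d : F, A.1 *ᵥ Sum.elim ![a, b] ![c, d] = B.1 *ᵥ Sum.elim ![a, b] ![c, d]) :
    A = B := by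
  refine ext_vec fun v => ?_
  rw [show v = Sum.elim ![v (.inl 0), v (.inl 1)] ![v (.inr 0), v (.inr 1)] by
    funext x; rcases x with x | x <;> fin_cases x <;> rfl]
  exact h _ _ _ _

theorem rm_apply (t a b c d : F) : (rm t).1 *ᵥ Sum.elim ![a, b] ![c, d] =
    Sum.elim ![a + t * b, b] ![c, d - t * c] := by
  simp only [rm, coe_embA, fromBlocks_mulVec]
  funext x
  rcases x with x | x <;> fin_cases x <;> simp [uu] <;> ring

theorem rp_apply (t a b c d : F) : (rp t).1 *ᵥ Sum.elim ![a, b] ![c, d] =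
    Sum.elim ![a + t * d, b + t * c] ![c, d] := by
  simp only [rp, coe_sieg, fromBlocks_mulVec]
  funext x
  rcases x with x | x <;> fin_cases x <;>
    simp [Matrix.vecHead, Matrix.vecTail, mul_comm]

theorem embB_apply (M : Matrix.SpecialLinearGroup (Fin 2) F) (a b c d : F) :
    (embB M).1 *ᵥ Sum.elim ![a, b] ![c, d] =
      Sum.elim ![a, M.1 0 0 * b + M.1 0 1 * d] ![c, M.1 1 0 * b + M.1 1 1 * d] := by
  simp only [coe_embB, fromBlocks_mulVec]
  funext x
  rcases x with x | x <;> fin_cases x <;>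
    simp [Matrix.vecHead, Matrix.vecTail, mul_comm]

theorem eA_apply (M : Matrix.SpecialLinearGroup (Fin 2) F) (a b c d : F) :
    (eA M).1 *ᵥ Sum.elim ![a, b] ![c, d] =
      Sum.elim ![M.1 0 0 * a + M.1 0 1 * c, b] ![M.1 1 0 * a + M.1 1 1 * c, d] := by
  rw [eA, MonoidHom.comp_apply, τ_apply, embB_apply]
  funext x
  rcases x with x | x <;> fin_cases x <;> simp

theorem sw_apply (a b c d : F) : (sw : symplecticGroup (Fin 2) F).1 *ᵥ Sum.elim ![a, b] ![c, d] =
    Sum.elim ![b, a] ![d, c] := by
  simp only [sw, fromBlocks_mulVec]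
  funext x
  rcases x with x | x <;> fin_cases x <;> simp

end CfsgLib.SpPresent
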